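import Mathlib
import Groth.Agent.CplNormFinite.Normal
import Groth.Agent.Sol.Regular
import Groth.Agent.FlatLoc6.GeomRed
import Groth.Agent.RatUp.Main

/-!
# Resolvable surface germs: completions and regular points
-/

set_option autoImplicit false
set_option linter.style.haveILetI false
set_option linter.unusedSectionVars false
set_option backward.isDefEq.respectTransparency false
set_option backward.isDefEq.respectTransparency.types false
set_option maxHeartbeats 400000

universe u

open CategoryTheory CategoryTheory.Limits AlgebraicGeometry TopologicalSpace IsLocalRing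
open scoped TensorProduct

noncomputable section

namespace Groth.Agent.RegRes

/-- A morphism which is an isomorphism over a nonempty open is birational. -/
theorem isIso_generic_of_restrict {X Y : Scheme.{u}} [IsIntegral X] [IsIntegral Y] (f : X ⟶ Y) (U : Y.Opens)
    (hU : (U : Set Y).Nonempty) [IsIso (f ∣_ U)] : IsIso (f.stalkMap (genericPoint X)) := by
  haveI : IsOpenImmersion ((f ⁻¹ᵁ U).ι ≫ f) := by rw [← morphismRestrict_ι]; infer_instance
  obtain ⟨v, hv⟩ := hU
  have hne : ((f ⁻¹ᵁ U : X.Opens) : Set X).Nonempty :=
    ⟨((inv (f ∣_ U)) ⟨v, hv⟩).1, ((inv (f ∣_ U)) ⟨v, hv⟩).2⟩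
  exact PurBir.isIso_stalkMap_of_mem f (W := f ⁻¹ᵁ U) (PurBir.genericPoint_mem hne)

variable (A : Type u) [CommRing A]

/-- The completion of a resolvable normal local domain is reduced. -/
theorem isReduced_cpl [IsDomain A] [IsLocalRing A] [IsNoetherianRing A] [IsIntegrallyClosed A] {X : Scheme.{u}} (f : X ⟶ Spec (CommRingCat.of A)) [IsProper f]
    [IsIntegral X] (hbir : IsIso (f.stalkMap (genericPoint X))) (hreg : ∀ x : X, IsRegularLocalRing (X.presheaf.stalk x)) :
    IsReduced (EGA4.Cpl A) := by
  haveI : IsDominant f := ⟨by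
    have h1 : (f : X → Spec (CommRingCat.of A)) (genericPoint X) = genericPoint (Spec (CommRingCat.of A)) :=
      SurfSeq.map_generic f hbir
    exact Dense.mono (Set.singleton_subset_iff.2 ⟨_, h1⟩)
      (dense_iff_closure_eq.2 (genericPoint_spec (Spec (CommRingCat.of A))).def)⟩
  have hn := CplNormFinite.Alt.isNormalRing_completion_integralClosure f hreg
  let B := integralClosure A (FractionRing A)
  have hbot : B = ⊥ := IsIntegrallyClosed.integralClosure_eq_bot A (FractionRing A)
  let e : A ≃ₐ[A] B :=
    ((Subalgebra.equivOfEq _ _ hbot).trans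
      (Algebra.botEquivOfInjective (IsFractionRing.injective A (FractionRing A)))).symm
  haveI : Module.Finite A B := Module.Finite.equiv e.toLinearEquiv
  obtain ⟨eB⟩ := CplNormFinite.exists_cplEquiv_of_finite A B
  haveI := FlatLoc6.isReduced_of_isNormalRing _ hn
  haveI : IsReduced (EGA4.Cpl A ⊗[A] B) := isReduced_of_injective eB eB.injective
  let e' : EGA4.Cpl A ≃ₐ[A] EGA4.Cpl A ⊗[A] B :=
    (Algebra.TensorProduct.rid A A (EGA4.Cpl A)).symm.trans
      (Algebra.TensorProduct.congr (AlgEquiv.refl) e)
  exact isReduced_of_injective e' e'.injective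

/-- A regular local ring of dimension two is a rational singularity. -/
theorem isRationalSing_of_regular [IsRegularLocalRing A] (hdim : ringKrullDim A = 2) : Curv2.IsRationalSing A := by
  intro X f hfP hint hn ⟨U, hU, hiso⟩
  haveI := hfP
  haveI := hint
  haveI := hiso
  haveI := (S2821.result A).1
  have hbir := isIso_generic_of_restrict f U hU
  have hreg : ∀ s : Spec (CommRingCat.of A), IsRegularLocalRing ((Spec (CommRingCat.of A)).presheaf.stalk s) :=
    fun s => by
      letI : Algebra A ((Spec (CommRingCat.of A)).presheaf.stalk s) := StructureSheaf.stalkAlgebra A s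
      haveI : IsLocalization.AtPrime ((Spec (CommRingCat.of A)).presheaf.stalk s) s.asIdeal :=
        StructureSheaf.IsLocalization.to_stalk A s
      haveI := RegLoc6.isRegularLocalRing_localization A s.asIdeal
      exact IsRegularLocalRing.of_ringEquiv (IsLocalization.algEquiv s.asIdeal.primeCompl
        (Localization.AtPrime s.asIdeal) ((Spec (CommRingCat.of A)).presheaf.stalk s)).toRingEquiv
  have hdim2 : topologicalKrullDim (Spec (CommRingCat.of A)) = 2 :=
    (PrimeSpectrum.topologicalKrullDim_eq_ringKrullDim (R := A)).trans hdim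
  have hle : ∀ s : Spec (CommRingCat.of A), ringKrullDim ((Spec (CommRingCat.of A)).presheaf.stalk s) ≤ 2 :=
    fun s => (SchTop.ringKrullDim_stalk_le s).trans hdim2.le
  let c : Spec (CommRingCat.of A) := IsLocalRing.closedPoint A
  have hd2 : ∀ s : Spec (CommRingCat.of A), ringKrullDim ((Spec (CommRingCat.of A)).presheaf.stalk s) = 2 → s = c :=
    fun s hs => by
      have h1 := (SurfSeq.closed_two hle hs).closure_eq
      have h2 : c ∈ closure ({s} : Set (Spec (CommRingCat.of A))) :=
        specializes_iff_mem_closure.1 (IsLocalRing.specializes_closedPoint s)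
      rw [h1] at h2
      exact h2.symm
  have hc : IsClosed ({c} : Set (Spec (CommRingCat.of A))) := IsLocalRing.isClosed_singleton_closedPoint A
  have hcdim : ringKrullDim ((Spec (CommRingCat.of A)).presheaf.stalk c) = 2 := by
    letI : Algebra A ((Spec (CommRingCat.of A)).presheaf.stalk c) :=
      StructureSheaf.stalkAlgebra A c
    haveI : IsLocalization.AtPrime ((Spec (CommRingCat.of A)).presheaf.stalk c) c.asIdeal :=
      StructureSheaf.IsLocalization.to_stalk A c
    refine (IsLocalization.AtPrime.ringKrullDim_eq_height c.asIdeal _).trans ?_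
    rw [← hdim, ← IsLocalRing.maximalIdeal_height_eq_ringKrullDim]
    rfl
  have hne : genericPoint (Spec (CommRingCat.of A)) ∉ ({c} : Set (Spec (CommRingCat.of A))) := fun h => by
    have h2 : Order.coheight c = 2 :=
      WithBot.coe_eq_coe.1 (((ringKrullDim_stalk_eq_coheight c).symm.trans hcdim).trans (by rfl))
    have h0 : Order.coheight c = 0 := Order.coheight_eq_zero.2 fun w _ => show w ≤ c from
      (Set.mem_singleton_iff.1 h) ▸ genericPoint_specializes w
    exact absurd (h2.symm.trans h0) (by decide)
  refine Sol.hh_of_sol (Sol.sol_of_modification hreg f hbir (fun x => (hn x).2) {c}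
    (Set.finite_singleton c) hc hne (fun t ht => ⟨Set.mem_singleton_iff.1 ht ▸ hc, Set.mem_singleton_iff.1 ht ▸ hcdim⟩)
    (fun s hs => ?_) ?_)
  · by_contra hgt
    exact hs (hd2 s (SurfSeq.eq_two (hle s) hgt))
  · exact Sol.sol_iff_solOn_univ.2 (Sol.solOn_affine (isAffineOpen_top (Spec (CommRingCat.of A))))

end Groth.Agent.RegRes
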