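import Mathlib
import Groth.Agent.RatUp.Rational
import Groth.Agent.SurfSeq.Main
import Groth.Agent.RelPC17.DimOne
import Groth.Agent.RelPC17.BirFibre
import Groth.Agent.PPSheaf.Gr
import Groth.Agent.Lib.DivisorExt
import Groth.Agent.RatSing.Fibre
import Groth.Agent.FrobTwist.Invariants
import Groth.Agent.CplNormFinite.Normal
import Groth.Agent.S5094

/-!
# The maximal ideal becomes invertible on regular modifications of rational singularities
-/

set_option autoImplicit false
set_option linter.style.haveILetI false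
set_option linter.unusedSectionVars false
set_option backward.isDefEq.respectTransparency false
set_option backward.isDefEq.respectTransparency.types false
set_option maxHeartbeats 400000

universe u

open CategoryTheory CategoryTheory.Limits AlgebraicGeometry TopologicalSpace IsLocalRing Opposite
open Groth.Agent.H23.StalkIdeal
open Groth.Agent.NormSeq (Model Nice)

noncomputable section

namespace Groth.Agent.RegRes

/-- An ideal of a regular surface point is a multiple of a primary ideal. -/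
theorem exists_factor (S : Type u) [CommRing S] [IsRegularLocalRing S] (hd : ringKrullDim S = 2) {K : Ideal S}
    (hK : K ≠ ⊥) : ∃ (g : S) (J : Ideal S) (n : ℕ), g ≠ 0 ∧ K = Ideal.span {g} * J ∧ maximalIdeal S ^ n ≤ J := by
  haveI := (S2821.result S).1
  let T : Set (Ideal S) := {J | ∃ g, K = Ideal.span {g} * J}
  obtain ⟨(J : Ideal S), (hJT : J ∈ T), hmax⟩ := set_has_maximal_iff_noetherian.2 (inferInstance : IsNoetherian S S) T
    ⟨K, 1, by rw [Ideal.span_singleton_one, Ideal.top_mul]⟩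
  obtain ⟨g, hg⟩ := hJT
  have hJ : J ≠ ⊥ := fun h => hK (by rw [hg, h, Ideal.mul_bot])
  have hg0 : g ≠ 0 := fun h => hK (by
    rw [hg, h, Ideal.span_singleton_eq_bot.2 rfl, Ideal.bot_mul])
  have hno : ∀ π : S, Prime π → ¬ J ≤ Ideal.span {π} := by
    intro π hπ hle
    let J' : Ideal S := Submodule.comap (LinearMap.mulLeft S π) J
    have hJ' : J = Ideal.span {π} * J' := by
      refine le_antisymm (fun j hj => ?_) (Ideal.span_singleton_mul_le_iff.2 fun a ha => ha)
      obtain ⟨a, rfl⟩ := Ideal.mem_span_singleton.1 (hle hj)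
      exact Ideal.mul_mem_mul (Ideal.mem_span_singleton_self π) hj
    have hT : J' ∈ T := ⟨g * π, by rw [hg, hJ', ← mul_assoc, Ideal.span_singleton_mul_span_singleton]⟩
    have hle' : J ≤ J' := fun a ha => J.mul_mem_left π ha
    have heq : J = J' := le_antisymm hle' (by
      by_contra h
      exact hmax J' hT (lt_of_le_of_ne hle' fun e => h e.ge))
    refine hJ (Submodule.eq_bot_of_le_smul_of_le_jacobson_bot (Ideal.span {π}) J (IsNoetherian.noetherian J) ?_ ?_)
    · rw [Ideal.smul_eq_mul]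
      calc J = Ideal.span {π} * J' := hJ'
        _ ≤ Ideal.span {π} * J := by rw [← heq]
    · rw [IsLocalRing.jacobson_eq_maximalIdeal ⊥ bot_ne_top]
      exact (Ideal.span_singleton_le_iff_mem _).2 ((mem_maximalIdeal π).2 hπ.not_unit)
  have hrad : maximalIdeal S ≤ J.radical := by
    rw [Ideal.radical_eq_sInf]
    refine le_sInf fun p ⟨hJp, hp⟩ => le_of_eq ?_
    by_contra hne
    haveI := hp
    have hp0 : p ≠ ⊥ := fun h => hJ (le_bot_iff.1 (h ▸ hJp))
    haveI : UniqueFactorizationMonoid S := (RegUFD.ufd S).2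
    obtain ⟨π, hπp, hπ⟩ := hp.exists_mem_prime_of_ne_bot hp0
    let q : PrimeSpectrum S := ⟨Ideal.span {π}, (Ideal.span_singleton_prime hπ.ne_zero).2 hπ⟩
    have h1 : (⟨⊥, Ideal.isPrime_bot⟩ : PrimeSpectrum S) < q :=
      show (⊥ : Ideal S) < Ideal.span {π} from bot_lt_iff_ne_bot.2 fun h => hπ.ne_zero (Ideal.span_singleton_eq_bot.1 h)
    have h2 : q < ⟨p, hp⟩ := show Ideal.span {π} < p from
      lt_of_le_of_ne ((Ideal.span_singleton_le_iff_mem _).2 hπp) fun h => hno π hπ (h ▸ hJp)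
    have h3 : (⟨p, hp⟩ : PrimeSpectrum S) < closedPoint S :=
      show p < maximalIdeal S from lt_of_le_of_ne (le_maximalIdeal hp.ne_top) fun h => hne h.symm
    let s : LTSeries (PrimeSpectrum S) :=
      (((RelSeries.singleton _ (⟨⊥, Ideal.isPrime_bot⟩ : PrimeSpectrum S)).snoc q (by simpa using h1)).snoc ⟨p, hp⟩
        (by simpa using h2)).snoc (closedPoint S) (by simpa using h3)
    have h4 : ((3 : ℕ) : WithBot ℕ∞) ≤ ringKrullDim S := Order.LTSeries.length_le_krullDim s
    rw [hd] at h4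
    exact absurd (Nat.cast_le.1 h4) (by decide)
  obtain ⟨n, hn⟩ := Ideal.exists_pow_le_of_le_radical_of_fg hrad (IsNoetherian.noetherian _)
  exact ⟨g, J, n, hg0, hg, hn⟩

/-- Sections of stalkwise multiples of the maximal ideal are sections off the point. -/
theorem exists_nhd {X : Scheme.{u}} [IsLocallyNoetherian X] {x : X} (hx : IsClosed ({x} : Set X))
    (K : X.IdealSheafData) {W₀ : X.Opens} (hW : IsAffineOpen W₀) (hxW : x ∈ W₀) (g : Γ(X, W₀)) (n : ℕ)
    (h : ∀ a ∈ maximalIdeal (X.presheaf.stalk x) ^ n, a * X.presheaf.germ W₀ x hxW g ∈ sI K x) :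
    ∃ (W : X.Opens) (hle : W ≤ W₀), x ∈ W ∧ ∀ w (hw : w ∈ W), w ≠ x →
      X.presheaf.germ W₀ w (hle hw) g ∈ sI K w := by
  classical
  haveI : IsNoetherianRing Γ(X, W₀) := IsLocallyNoetherian.component_noetherian ⟨W₀, hW⟩
  letI := X.presheaf.algebra_section_stalk (⟨x, hxW⟩ : W₀)
  haveI := hW.isLocalization_stalk ⟨x, hxW⟩
  let P := (hW.primeIdealOf ⟨x, hxW⟩).asIdeal
  have hmem : ∀ a, a ∈ P ↔ X.presheaf.germ W₀ x hxW a ∈ maximalIdeal (X.presheaf.stalk x) := fun a =>
    (IsLocalization.AtPrime.to_map_mem_maximal_iff (X.presheaf.stalk x) P a).symm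
  obtain ⟨G, hG⟩ := (IsNoetherian.noetherian (P ^ n) : (P ^ n).FG)
  have hG' : ∀ a ∈ G, ∃ s ∈ P.primeCompl, s * (a * g) ∈ K.ideal ⟨W₀, hW⟩ := by
    intro a ha
    refine (IsLocalization.algebraMap_mem_map_algebraMap_iff P.primeCompl (X.presheaf.stalk x)
      (K.ideal ⟨W₀, hW⟩) (a * g)).1 ?_
    have haP : a ∈ P ^ n := hG ▸ Submodule.subset_span ha
    have hle : (P ^ n).map (algebraMap Γ(X, W₀) (X.presheaf.stalk x)) ≤ maximalIdeal (X.presheaf.stalk x) ^ n := by
      rw [Ideal.map_pow]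
      exact Ideal.pow_right_mono (Ideal.map_le_iff_le_comap.2 fun b hb => Ideal.mem_comap.2 ((hmem b).1 hb)) n
    have h1 := h _ (hle (Ideal.mem_map_of_mem _ haP))
    rw [sI_eq K ⟨W₀, hW⟩ hxW] at h1
    rw [map_mul]
    exact h1
  choose! s hs hsK using hG'
  let t : Γ(X, W₀) := ∏ a ∈ G, s a
  have ht : t ∉ P := fun h => by
    have h' : t ∈ P.primeCompl := prod_mem fun a ha => hs a ha
    exact h' h
  have hcol : ∀ b ∈ P ^ n, t * (b * g) ∈ K.ideal ⟨W₀, hW⟩ := by
    intro b hb
    rw [← hG] at hb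
    induction hb using Submodule.span_induction with
    | mem a ha =>
      have e : t = s a * ∏ c ∈ G.erase a, s c := (Finset.mul_prod_erase G s ha).symm
      rw [e, mul_comm (s a), mul_assoc]
      exact Ideal.mul_mem_left _ _ (hsK a ha)
    | zero => simp
    | add b c _ _ hb hc => rw [add_mul, mul_add]; exact add_mem hb hc
    | smul r b _ hb =>
      rw [smul_eq_mul, show t * (r * b * g) = r * (t * (b * g)) by ring]
      exact Ideal.mul_mem_left _ _ hb
  refine ⟨X.basicOpen t, X.basicOpen_le t, (X.mem_basicOpen t x hxW).2 (not_not.1 fun hu => ht ((hmem t).2 ((mem_maximalIdeal _).2 hu))),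
    fun w hw hne => ?_⟩
  have hwW : w ∈ W₀ := X.basicOpen_le t hw
  obtain ⟨a, ha, hwa⟩ := hW.exists_basicOpen_le (V := (⟨{x}ᶜ, hx.isOpen_compl⟩ : X.Opens)) ⟨w, hne⟩ hwW
  have haP : a ∈ P := (hmem a).2 ((mem_maximalIdeal _).2 fun hu => ha ((X.mem_basicOpen a x hxW).2 hu) rfl)
  have h1 : X.presheaf.germ W₀ w hwW (t * (a ^ n * g)) ∈ sI K w := by
    rw [sI_eq K ⟨W₀, hW⟩ hwW]
    exact Ideal.mem_map_of_mem _ (hcol _ (Ideal.pow_mem_pow haP n))
  rw [← mul_assoc, map_mul, map_mul, map_pow] at h1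
  exact (Ideal.unit_mul_mem_iff_mem _ (((X.mem_basicOpen t w hwW).1 hw).mul (((X.mem_basicOpen a w hwW).1 hwa).pow n))).1 h1

/-- Sections lift along a quotient whose kernel has no first cohomology. -/
theorem app_top_surjective {X : Scheme.{u}} {S : ShortComplex X.Modules} (hS : S.ShortExact)
    (h : Subsingleton (Coh.HH X S.X₁ 1)) : Function.Surjective (S.g.app ⊤) := by
  intro q
  let T := S.map (QCoh.toAbFunctor X)
  haveI : Subsingleton (CohTop.H (X := X.toPresheafedSpace.carrier) T.X₁ (0 + 1)) := h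
  obtain ⟨y, hy⟩ := (QCoh.Ab.connecting_eq_zero_iff (X := X.toPresheafedSpace.carrier)
    (QCoh.toAb_shortExact hS) 0 ((Sheaf.H.equiv₀ T.X₃ isTerminalTop).symm q)).1 (Subsingleton.elim _ _)
  refine ⟨Sheaf.H.equiv₀ T.X₂ isTerminalTop y, ?_⟩
  refine (Sheaf.H.equiv₀_naturality isTerminalTop T.g y).trans ?_
  rw [show Sheaf.H.map T.g 0 y = _ from hy]
  exact AddEquiv.apply_symm_apply _ _

/-- An element congruent to zero off a point and to a given germ at the point. -/
theorem exists_global {X : Scheme.{u}} (K : X.IdealSheafData) {x : X} (hx : IsClosed ({x} : Set X)) (hxK : x ∈ (K.support : Set X))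
    (hsurj : Function.Surjective (K.subschemeι.app ⊤)) {W : X.Opens} (hxW : x ∈ W) (g : Γ(X, W))
    (hg : ∀ w (hw : w ∈ W), w ≠ x → X.presheaf.germ W w hw g ∈ sI K w) :
    ∃ h : Γ(X, ⊤), X.presheaf.germ ⊤ x trivial h - X.presheaf.germ W x hxW g ∈ sI K x := by
  let S := K.subscheme
  let j := K.subschemeι
  let U : Bool → S.Opens := fun b => bif b then j ⁻¹ᵁ W else j ⁻¹ᵁ (⟨{x}ᶜ, hx.isOpen_compl⟩ : X.Opens)
  let sf : ∀ b, Γ(S, U b) := fun b => Bool.rec (motive := fun b => Γ(S, U b)) 0 (j.app W g) b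
  have hker : ∀ (p : S) (hp : j p ∈ W), j p ≠ x → S.presheaf.germ (j ⁻¹ᵁ W) p hp (j.app W g) = 0 := by
    intro p hp hne
    rw [← Scheme.Hom.germ_stalkMap_apply]
    exact RingHom.mem_ker.1 (by rw [PointBlow.ker_stalkMap]; exact hg _ hp hne)
  have hcompat : TopCat.Presheaf.IsCompatible S.presheaf U sf := by
    intro a b
    apply TopCat.Presheaf.section_ext S.sheaf
    intro p hp
    have hp' : p ∈ U a ⊓ U b := hp
    erw [S.presheaf.germ_res_apply, S.presheaf.germ_res_apply]
    cases a <;> cases b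
    · rfl
    · show S.presheaf.germ _ p hp'.1 (0 : Γ(S, U false)) = S.presheaf.germ (j ⁻¹ᵁ W) p hp'.2 (j.app W g)
      rw [map_zero, hker p hp'.2 hp'.1]
    · show S.presheaf.germ (j ⁻¹ᵁ W) p hp'.1 (j.app W g) = S.presheaf.germ _ p hp'.2 (0 : Γ(S, U false))
      rw [map_zero, hker p hp'.1 hp'.2]
    · rfl
  obtain ⟨σ, hσ, -⟩ := TopCat.Sheaf.existsUnique_gluing' S.sheaf U ⊤ (fun b => homOfLE le_top)
    (fun p _ => Opens.mem_iSup.2 (by
      by_cases hp : j p = x
      · exact ⟨true, show j p ∈ W from hp ▸ hxW⟩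
      · exact ⟨false, show j p ∈ ({x}ᶜ : Set X) from hp⟩)) sf hcompat
  obtain ⟨h, hh⟩ := hsurj σ
  obtain ⟨p, hp⟩ : x ∈ Set.range j := by rw [Scheme.IdealSheafData.range_subschemeι]; exact hxK
  refine ⟨h, ?_⟩
  subst hp
  rw [← PointBlow.ker_stalkMap, RingHom.mem_ker, map_sub]
  rw [Scheme.Hom.germ_stalkMap_apply, Scheme.Hom.germ_stalkMap_apply, sub_eq_zero]
  show S.presheaf.germ (j ⁻¹ᵁ (⊤ : X.Opens)) p trivial (j.app ⊤ h) = _
  rw [hh]
  have h2 := hσ true
  refine Eq.trans ?_ (congrArg (S.presheaf.germ (U true) p hxW) h2)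
  exact (S.presheaf.germ_res_apply (homOfLE (le_top : U true ≤ ⊤)) p hxW σ).symm

section Main

variable {R : CommRingCat.{u}} [IsDomain R] [IsLocalRing R] [IsNoetherianRing R] [IsIntegrallyClosed R]
  (N : Model (Spec R)) [IsProper N.G]

theorem sI_centre (x : N.Z) : sI ((BlowUpLib.centre (A := R) (maximalIdeal R)).comap N.G) x =
    (maximalIdeal R).map (RatSing.strStalk N x) := by
  have h := RatSing.sI_pow_centre N (maximalIdeal R) 1 x
  rwa [pow_one, pow_one] at h

/-- Global sections of a proper birational scheme over a normal ring come from the ring. -/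
theorem exists_of_global (h : Γ(N.Z, ⊤)) (x : N.Z) :
    ∃ b : R, N.Z.presheaf.germ ⊤ x trivial h = RatSing.strStalk N x b := by
  let φ : R →+* Γ(N.Z, ⊤) := CplNormFinite.Alt.toΓ (A := R) N.G
  have hfin : φ.Finite := CplNormFinite.Alt.finite_toΓ (A := R) N.G
  letI := φ.toAlgebra
  haveI : Module.Finite R Γ(N.Z, ⊤) := hfin
  have hint : IsIntegral R h := Algebra.IsIntegral.isIntegral h
  have hφ : ∀ a, N.Z.presheaf.germ ⊤ x trivial (φ a) = RatSing.strStalk N x a := fun a => by
    rw [← RatSing.germ_strHom N (U := ⊤) (x := x) trivial a]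
    show _ = N.Z.presheaf.germ ⊤ x trivial ((N.G.appLE ⊤ ⊤ le_top) ((Scheme.ΓSpecIso R).inv a))
    rw [Scheme.Hom.appLE, Scheme.Hom.app]
    simp [φ, CplNormFinite.Alt.toΓ, Scheme.Hom.appTop, Scheme.Hom.app]
    rfl
  let e : Γ(N.Z, ⊤) →ₐ[R] (Spec R).functionField :=
    { (N.Z.presheaf.germ ⊤ x trivial ≫ N.toKHom x).hom with
      commutes' := fun a => by
        show N.toKHom x (N.Z.presheaf.germ ⊤ x trivial (φ a)) = _
        rw [hφ, RatSing.toK_strStalk] }
  obtain ⟨b, hb⟩ := IsIntegrallyClosed.isIntegral_iff.1 (hint.map e)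
  refine ⟨b, N.toK_injective x ?_⟩
  rw [RatSing.toK_strStalk]
  exact hb.symm

/-- The maximal ideal of a singular rational surface germ is invertible on regular modifications. -/
theorem comap_isEffCartier (hdim : ringKrullDim R = 2) (hrat : Curv2.IsRationalSing R) (hnice : Nice (Spec R))
    (hns : ¬ IsRegularLocalRing R) (hreg : ∀ y : N.Z, IsRegularLocalRing (N.Z.presheaf.stalk y)) :
    BlowUp.IsEffCartierIdeal ((BlowUpLib.centre (A := R) (maximalIdeal R)).comap N.G) := by
  classical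
  haveI : IsLocallyNoetherian N.Z := LocallyOfFiniteType.isLocallyNoetherian N.G
  haveI : CompactSpace N.Z := QuasiCompact.compactSpace_of_compactSpace N.G
  haveI : IsNoetherian N.Z := {}
  have hd : ∀ y : N.Z, ringKrullDim (N.Z.presheaf.stalk y) ≤ 2 := fun y =>
    (NormSeq.dim_le N.G N.bir y).trans (hnice.dim _)
  let K := (BlowUpLib.centre (A := R) (maximalIdeal R)).comap N.G
  have hne : maximalIdeal R ≠ ⊥ := fun h => by
    have h2 := IsLocalRing.maximalIdeal_height_eq_ringKrullDim (R := R)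
    rw [h, Ideal.height_bot, hdim] at h2
    exact absurd (WithBot.coe_eq_coe.1 (h2.trans (by rfl) : ((0 : ℕ∞) : WithBot ℕ∞) = ((2 : ℕ∞) : WithBot ℕ∞))) (by decide)
  have hinj : ∀ y, Function.Injective (RatSing.strStalk N y) := fun y a b hab => by
    have h1 := congrArg (N.toKHom y) hab
    rw [RatSing.toK_strStalk, RatSing.toK_strStalk] at h1
    exact IsFractionRing.injective R (Spec R).functionField h1
  have hKne : ∀ y, sI K y ≠ ⊥ := fun y h => hne (by
    rw [sI_centre, Ideal.map_eq_bot_iff_of_injective (hinj y)] at h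
    exact h)
  refine MeroX.isEffCartier_of_stalk _ fun x hxK U hxU => ?_
  haveI := hreg x
  haveI := (S2821.result (N.Z.presheaf.stalk x)).1
  suffices hp : (sI K x).IsPrincipal by
    obtain ⟨c, hc⟩ := hp
    exact ⟨c, mem_nonZeroDivisors_of_ne_zero fun h0 => hKne x (hc.trans (Ideal.span_singleton_eq_bot.2 h0)),
      (sI_eq _ U hxU).symm.trans hc⟩
  by_cases hx2 : ringKrullDim (N.Z.presheaf.stalk x) ≤ 1
  · haveI := SurfSeq.principal_of_dim_le_one (N.Z.presheaf.stalk x) hx2
    exact IsPrincipalIdealRing.principal _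
  have hd2 := SurfSeq.eq_two (hd x) hx2
  have hxcl : IsClosed ({x} : Set N.Z) := SurfSeq.closed_two hd hd2
  obtain ⟨g, J, n, hg0, hKJ, hJ⟩ := exists_factor (N.Z.presheaf.stalk x) hd2 (hKne x)
  by_cases hJtop : J = ⊤
  · exact ⟨g, by rw [hKJ, hJtop, Ideal.mul_top, Ideal.submodule_span_eq]⟩
  exfalso
  by_cases hu : IsUnit g
  · -- isolated in the fibre
    rw [Ideal.span_singleton_eq_top.2 hu, Ideal.top_mul] at hKJ
    have hmax : ∀ w ∈ (K.support : Set N.Z), w ⤳ x → w = x := by
      intro w hw hwx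
      by_contra hne'
      obtain ⟨W₀, hW₀, hxW₀, -⟩ := exists_isAffineOpen_mem_and_subset (x := x) (U := ⊤) trivial
      obtain ⟨W, hle, hxW, hW⟩ := exists_nhd hxcl K hW₀ hxW₀ 1 n fun a ha => by
        rw [map_one, mul_one, hKJ]; exact hJ ha
      have hwW : w ∈ W := hwx.mem_open W.isOpen hxW
      have h1 := hW w hwW hne'
      rw [map_one, ← Ideal.eq_top_iff_one] at h1
      exact (PointBlow.mem_support_iff K w).1 hw h1
    obtain ⟨O, hxO, hO⟩ := SurfSeq.exists_isolating K.support.isClosed hxcl hmax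
    have hxc : N.G x = closedPoint R := (PointBlow.mem_exceptional_iff (A := R) (b := N.G) x).1 hxK
    have hqf := SurfSeq.quasiFiniteAt_of_isolated N.G x O hxO fun w hw hwx => hO w hw
      ((PointBlow.mem_exceptional_iff (A := R) (b := N.G) w).2 (hwx.trans hxc))
    obtain ⟨V, hxV, hV⟩ := S5094.result N.G (SurfSeq.map_generic N.G N.bir) N.bir (N.G x) (hnice.normal _).2
      (N.G.asFiber x) (Scheme.Hom.quasiFiniteAt_iff_isOpen_singleton_asFiber.1 hqf)
    haveI := hV
    haveI : IsOpenImmersion ((N.G ⁻¹ᵁ V).ι ≫ N.G) := by rw [← morphismRestrict_ι]; infer_instance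
    have hiso : IsIso (N.G.stalkMap x) := PurBir.isIso_stalkMap_of_mem N.G (W := N.G ⁻¹ᵁ V) hxV
    haveI := hiso
    refine hns ?_
    letI : Algebra R ((Spec R).presheaf.stalk (N.G x)) := (StructureSheaf.toStalk R (N.G x)).hom.toAlgebra
    haveI : IsLocalization.AtPrime ((Spec R).presheaf.stalk (N.G x)) (N.G x).asIdeal :=
      inferInstanceAs (IsLocalization.AtPrime ((Spec.structureSheaf R).presheaf.stalk (N.G x)) (N.G x).asIdeal)
    haveI : IsRegularLocalRing ((Spec R).presheaf.stalk (N.G x)) :=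
      IsRegularLocalRing.of_ringEquiv (asIso (N.G.stalkMap x)).commRingCatIsoToRingEquiv.symm
    have hall : ∀ a ∈ (N.G x).asIdeal.primeCompl, IsUnit a := fun a ha => by
      by_contra hau
      refine ha ?_
      rw [hxc]
      exact (mem_maximalIdeal a).2 hau
    exact IsRegularLocalRing.of_ringEquiv (IsLocalization.atUnits R (N.G x).asIdeal.primeCompl
      (S := (Spec R).presheaf.stalk (N.G x)) hall).toRingEquiv.symm
  · have hO : Subsingleton (Coh.HH N.Z (Coh.structureModule N.Z) 1) :=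
      hrat N.Z N.G inferInstance inferInstance (FrobTwist.isNormalScheme_of_regular hreg)
        (RatUp.exists_isIso_restrict hnice N.G N.bir)
    obtain ⟨V, hV, hVi⟩ := RatUp.exists_isIso_restrict hnice N.G N.bir
    haveI := hVi
    obtain ⟨ι, e, he⟩ := RatSing.isGloballyGenerated_centre (A := R) (maximalIdeal R) N.G K fun W => by
      rw [BlowUpLib.ideal_comap_centre]
    haveI : Epi e := he
    have hsub : Subsingleton (Coh.HH N.Z (ClSub.idealMod K) 1) :=
      RelPC17.DimOne.subsingleton_HH_one_of_epi N.G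
        (RelPC17.BirFibre.fibre_dim_le_one N.G
          (RelPC17.BirFibre.dim_spec_le R 2 (by rw [hdim]; norm_cast)) V hV) hO (PPSheaf.isQCoh_idealMod K) e
    have hsurj : Function.Surjective (K.subschemeι.app ⊤) :=
      app_top_surjective (DivisorExt.ideal_shortExact K) hsub
    obtain ⟨W₀, hW₀, hxW₀, -⟩ := exists_isAffineOpen_mem_and_subset (x := x) (U := ⊤) trivial
    letI := N.Z.presheaf.algebra_section_stalk (⟨x, hxW₀⟩ : W₀)
    haveI := hW₀.isLocalization_stalk ⟨x, hxW₀⟩
    obtain ⟨⟨g₁, s⟩, hgs⟩ := IsLocalization.surj (hW₀.primeIdealOf ⟨x, hxW₀⟩).asIdeal.primeCompl g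
    have hsu : IsUnit (N.Z.presheaf.germ W₀ x hxW₀ (s : Γ(N.Z, W₀))) := IsLocalization.map_units (N.Z.presheaf.stalk x) s
    have hgs' : g * N.Z.presheaf.germ W₀ x hxW₀ (s : Γ(N.Z, W₀)) = N.Z.presheaf.germ W₀ x hxW₀ g₁ := hgs
    obtain ⟨W, hle, hxW, hW⟩ := exists_nhd hxcl K hW₀ hxW₀ g₁ n fun a ha => by
      rw [← hgs', ← mul_assoc, mul_comm a g, hKJ]
      exact Ideal.mul_mem_right _ _ (Ideal.mul_mem_mul (Ideal.mem_span_singleton_self g) (hJ ha))
    obtain ⟨h, hh⟩ := exists_global K hxcl hxK hsurj hxW (N.Z.presheaf.map (homOfLE hle).op g₁) fun w hw hne' => by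
      rw [N.Z.presheaf.germ_res_apply]; exact hW w hw hne'
    rw [N.Z.presheaf.germ_res_apply, ← hgs'] at hh
    obtain ⟨b, hb⟩ := exists_of_global N h x
    rw [hb] at hh
    have hKm : sI K x ≤ maximalIdeal (N.Z.presheaf.stalk x) := le_maximalIdeal ((PointBlow.mem_support_iff K x).1 hxK)
    have hgm : g * N.Z.presheaf.germ W₀ x hxW₀ (s : Γ(N.Z, W₀)) ∈ maximalIdeal (N.Z.presheaf.stalk x) :=
      Ideal.mul_mem_right _ _ ((mem_maximalIdeal g).2 hu)
    have hbm : b ∈ maximalIdeal R := (mem_maximalIdeal b).2 fun hbu =>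
      (mem_maximalIdeal _).1 ((sub_add_cancel (RatSing.strStalk N x b) _ ▸ Ideal.add_mem _ (hKm hh) hgm :
        RatSing.strStalk N x b ∈ maximalIdeal (N.Z.presheaf.stalk x))) (hbu.map _)
    have hgK : g * N.Z.presheaf.germ W₀ x hxW₀ (s : Γ(N.Z, W₀)) ∈ sI K x := by
      have h2 : RatSing.strStalk N x b ∈ sI K x := by rw [sI_centre]; exact Ideal.mem_map_of_mem _ hbm
      simpa using sub_mem h2 hh
    rw [hKJ, Ideal.mem_span_singleton_mul] at hgK
    obtain ⟨z, hz, hgz⟩ := hgK
    exact hJtop (Ideal.eq_top_of_isUnit_mem _ hz (by rw [mul_left_cancel₀ hg0 hgz]; exact hsu))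

end Main

end Groth.Agent.RegRes
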