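import Mathlib
import Groth.Agent.RegRes.Base
import Groth.Agent.RegRes.Invertible
import Groth.Agent.NormSeq.FinScheme
import Groth.Agent.PointBlow.Step

/-!
# Stages between two regular surfaces
-/

set_option autoImplicit false
set_option linter.style.haveILetI false
set_option linter.unusedSectionVars false
set_option backward.isDefEq.respectTransparency false
set_option backward.isDefEq.respectTransparency.types false
set_option maxHeartbeats 400000

universe u

open CategoryTheory CategoryTheory.Limits AlgebraicGeometry TopologicalSpace IsLocalRing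
open Groth.Agent.H23.StalkIdeal
open Groth.Agent.NormSeq (Model Nice FinBir)
open Groth.Agent.PointBlow (pt locTo locB)

noncomputable section

namespace Groth.Agent.RegRes

theorem finBir_of_resolution (A : CommRingCat.{u}) [IsDomain A] [IsLocalRing A] [IsNoetherianRing A]
    [IsIntegrallyClosed A] {X : Scheme.{u}} (f : X ⟶ Spec A) [IsProper f] [IsIntegral X]
    (hbir : IsIso (f.stalkMap (genericPoint X))) (hreg : ∀ x : X, IsRegularLocalRing (X.presheaf.stalk x)) :
    FinBir A := by
  haveI := isReduced_cpl A f hbir hreg
  exact NormSeq.finBir_of_isReduced_cpl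

/-- The local rings of a surface lying over a regular surface are rational. -/
theorem isRationalSing_stalk {Z X : Scheme.{u}} [IsIntegral Z] [IsIntegral X] [IsLocallyNoetherian X]
    (t : Z ⟶ X) [LocallyOfFiniteType t] (hbir : IsIso (t.stalkMap (genericPoint Z)))
    (hXreg : ∀ x : X, IsRegularLocalRing (X.presheaf.stalk x))
    (hXd : ∀ x : X, ringKrullDim (X.presheaf.stalk x) ≤ 2) (z : Z) (hz : ringKrullDim (Z.presheaf.stalk z) = 2)
    [IsIntegrallyClosed (Z.presheaf.stalk z)] : Curv2.IsRationalSing (Z.presheaf.stalk z) := by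
  let A := X.presheaf.stalk (t z)
  haveI := hXreg (t z)
  haveI := (S2821.result A).1
  haveI := (S2821.result A).2
  haveI : IsIntegrallyClosed A := inferInstance
  have hdA : ringKrullDim A = 2 := le_antisymm (hXd _) (hz ▸ NormSeq.dim_le t hbir z)
  have hregS : ∀ s : Spec A, IsRegularLocalRing ((Spec A).presheaf.stalk s) := fun s => by
    letI : Algebra A ((Spec A).presheaf.stalk s) := (StructureSheaf.toStalk A s).hom.toAlgebra
    haveI : IsLocalization.AtPrime ((Spec A).presheaf.stalk s) s.asIdeal :=
      inferInstanceAs (IsLocalization.AtPrime ((Spec.structureSheaf A).presheaf.stalk s) s.asIdeal)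
    haveI := RegLoc6.isRegularLocalRing_localization A s.asIdeal
    exact IsRegularLocalRing.of_ringEquiv (IsLocalization.algEquiv s.asIdeal.primeCompl
      (Localization.AtPrime s.asIdeal) ((Spec A).presheaf.stalk s)).toRingEquiv
  have hF : FinBir A := finBir_of_resolution A (𝟙 (Spec A)) inferInstance hregS
  letI : Algebra A (Z.presheaf.stalk z) := (t.stalkMap z).hom.toAlgebra
  haveI : IsLocalHom (algebraMap A (Z.presheaf.stalk z)) := inferInstanceAs (IsLocalHom (t.stalkMap z).hom)
  haveI : Algebra.EssFiniteType A (Z.presheaf.stalk z) := LocallyOfFiniteType.stalkMap t z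
  refine RatUp.isRationalSing_ext' A (Z.presheaf.stalk z) hF hdA (isRationalSing_of_regular A hdA)
    (SurfSeq.injective_stalk t hbir z) (fun b => ?_) hz
  obtain ⟨r, s, hs, h⟩ := SurfSeq.exists_fraction t hbir z b
  exact ⟨r, s, hs, by rw [mul_comm]; exact h⟩

/-- Base change of a regular modification to a local scheme. -/
theorem exists_local_resolution {Z X' : Scheme.{u}} [IsIntegral Z] [IsLocallyNoetherian Z] [IsIntegral X']
    (h : X' ⟶ Z) [IsProper h] (hbir : IsIso (h.stalkMap (genericPoint X')))
    (hreg : ∀ x : X', IsRegularLocalRing (X'.presheaf.stalk x)) (z : Z) :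
    ∃ (P : Scheme.{u}) (G : P ⟶ Spec (Z.presheaf.stalk z)) (_ : IsProper G) (_ : IsIntegral P),
      IsIso (G.stalkMap (genericPoint P)) ∧ ∀ p : P, IsRegularLocalRing (P.presheaf.stalk p) := by
  let P := pullback h (Z.fromSpecStalk z)
  haveI : Flat (Z.fromSpecStalk z) := H23.RatExtend.flat_fromSpecStalk Z z
  have hstk : ∀ p : P, IsIso ((locTo h z).stalkMap p) := fun p =>
    H23.FFDescent.isIso_stalkMap_of_flat_of_isPreimmersion (locTo h z) p
  haveI : IsReduced P := by
    haveI : ∀ p : P, _root_.IsReduced (P.presheaf.stalk p) := fun p => by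
      haveI := hstk p
      let e := (asIso ((locTo h z).stalkMap p)).commRingCatIsoToRingEquiv.symm
      exact isReduced_of_injective e e.injective
    exact isReduced_of_isReduced_stalk P
  obtain ⟨η, hη, hη'⟩ : ∃ η : P, locTo h z η = genericPoint X' ∧ True := by
    obtain ⟨q, hq⟩ : genericPoint Z ∈ Set.range (Z.fromSpecStalk z) := by
      rw [Scheme.range_fromSpecStalk]; exact genericPoint_specializes z
    obtain ⟨η, h1, -⟩ := Scheme.Pullback.exists_preimage_pullback (f := h) (g := Z.fromSpecStalk z)
      (genericPoint X') q ((SurfSeq.map_generic h hbir).trans hq.symm)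
    exact ⟨η, h1, trivial⟩
  have hgenη : IsGenericPoint η (Set.univ : Set P) := by
    refine isGenericPoint_def.2 (Set.eq_univ_of_forall fun p => ?_)
    refine specializes_iff_mem_closure.1 ((locTo h z).isEmbedding.isInducing.specializes_iff.1 ?_)
    rw [hη]; exact genericPoint_specializes _
  haveI : Nonempty P := ⟨η⟩
  haveI : IrreducibleSpace P := (irreducibleSpace_def P).2 (show IsIrreducible (Set.univ : Set P) from hgenη.def ▸ isIrreducible_singleton.closure)
  haveI : IsIntegral P := isIntegral_of_irreducibleSpace_of_isReduced P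
  have hgP : locTo h z (genericPoint P) = genericPoint X' := by
    rw [(genericPoint_spec P).eq hgenη, hη]
  haveI hbirP : IsIso ((locB h z).stalkMap (genericPoint P)) := by
    haveI := hstk (genericPoint P)
    haveI : IsIso (h.stalkMap (locTo h z (genericPoint P))) := by rw [hgP]; exact hbir
    haveI : IsIso ((locTo h z ≫ h).stalkMap (genericPoint P)) := by rw [Scheme.Hom.stalkMap_comp]; infer_instance
    haveI : IsIso ((locB h z ≫ Z.fromSpecStalk z).stalkMap (genericPoint P)) := by
      rw [← pullback.condition]; infer_instance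
    haveI := H23.FFDescent.isIso_stalkMap_of_flat_of_isPreimmersion (Z.fromSpecStalk z) (locB h z (genericPoint P))
    have e := Scheme.Hom.stalkMap_comp (locB h z) (Z.fromSpecStalk z) (genericPoint P)
    haveI : IsIso ((Z.fromSpecStalk z).stalkMap (locB h z (genericPoint P)) ≫ (locB h z).stalkMap (genericPoint P)) :=
      e ▸ inferInstance
    exact IsIso.of_isIso_comp_left ((Z.fromSpecStalk z).stalkMap (locB h z (genericPoint P))) _
  have hregP : ∀ p : P, IsRegularLocalRing (P.presheaf.stalk p) := fun p => by
    haveI := hstk p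
    haveI := hreg (locTo h z p)
    exact IsRegularLocalRing.of_ringEquiv (asIso ((locTo h z).stalkMap p)).commRingCatIsoToRingEquiv
  exact ⟨P, locB h z, inferInstance, inferInstance, hbirP, hregP⟩

/-- The point ideal of a singular rational point becomes invertible on a regular modification. -/
theorem pt_comap_isEffCartier {Z X' : Scheme.{u}} [IsIntegral Z] [IsLocallyNoetherian Z] [IsIntegral X']
    (h : X' ⟶ Z) [IsProper h] (hbir : IsIso (h.stalkMap (genericPoint X')))
    (hreg : ∀ x : X', IsRegularLocalRing (X'.presheaf.stalk x)) {z : Z} (hz : IsClosed ({z} : Set Z))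
    (hd : ringKrullDim (Z.presheaf.stalk z) = 2) [IsIntegrallyClosed (Z.presheaf.stalk z)]
    (hrat : Curv2.IsRationalSing (Z.presheaf.stalk z)) (hns : ¬ IsRegularLocalRing (Z.presheaf.stalk z)) :
    BlowUp.IsEffCartierIdeal ((pt hz).comap h) := by
  haveI : IsLocallyNoetherian X' := LocallyOfFiniteType.isLocallyNoetherian h
  let P := pullback h (Z.fromSpecStalk z)
  haveI : Flat (Z.fromSpecStalk z) := H23.RatExtend.flat_fromSpecStalk Z z
  have hstk : ∀ p : P, IsIso ((locTo h z).stalkMap p) := fun p =>
    H23.FFDescent.isIso_stalkMap_of_flat_of_isPreimmersion (locTo h z) p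
  haveI : IsReduced P := by
    haveI : ∀ p : P, _root_.IsReduced (P.presheaf.stalk p) := fun p => by
      haveI := hstk p
      let e := (asIso ((locTo h z).stalkMap p)).commRingCatIsoToRingEquiv.symm
      exact isReduced_of_injective e e.injective
    exact isReduced_of_isReduced_stalk P
  obtain ⟨η, hη, hη'⟩ : ∃ η : P, locTo h z η = genericPoint X' ∧ True := by
    obtain ⟨q, hq⟩ : genericPoint Z ∈ Set.range (Z.fromSpecStalk z) := by
      rw [Scheme.range_fromSpecStalk]; exact genericPoint_specializes z
    obtain ⟨η, h1, -⟩ := Scheme.Pullback.exists_preimage_pullback (f := h) (g := Z.fromSpecStalk z)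
      (genericPoint X') q ((SurfSeq.map_generic h hbir).trans hq.symm)
    exact ⟨η, h1, trivial⟩
  have hgenη : IsGenericPoint η (Set.univ : Set P) := by
    refine isGenericPoint_def.2 (Set.eq_univ_of_forall fun p => ?_)
    refine specializes_iff_mem_closure.1 ((locTo h z).isEmbedding.isInducing.specializes_iff.1 ?_)
    rw [hη]; exact genericPoint_specializes _
  haveI : Nonempty P := ⟨η⟩
  haveI : IrreducibleSpace P := (irreducibleSpace_def P).2 (show IsIrreducible (Set.univ : Set P) from hgenη.def ▸ isIrreducible_singleton.closure)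
  haveI : IsIntegral P := isIntegral_of_irreducibleSpace_of_isReduced P
  have hgP : locTo h z (genericPoint P) = genericPoint X' := by
    rw [(genericPoint_spec P).eq hgenη, hη]
  haveI hbirP : IsIso ((locB h z).stalkMap (genericPoint P)) := by
    haveI := hstk (genericPoint P)
    haveI : IsIso (h.stalkMap (locTo h z (genericPoint P))) := by rw [hgP]; exact hbir
    haveI : IsIso ((locTo h z ≫ h).stalkMap (genericPoint P)) := by rw [Scheme.Hom.stalkMap_comp]; infer_instance
    haveI : IsIso ((locB h z ≫ Z.fromSpecStalk z).stalkMap (genericPoint P)) := by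
      rw [← pullback.condition]; infer_instance
    haveI := H23.FFDescent.isIso_stalkMap_of_flat_of_isPreimmersion (Z.fromSpecStalk z) (locB h z (genericPoint P))
    have e := Scheme.Hom.stalkMap_comp (locB h z) (Z.fromSpecStalk z) (genericPoint P)
    haveI : IsIso ((Z.fromSpecStalk z).stalkMap (locB h z (genericPoint P)) ≫ (locB h z).stalkMap (genericPoint P)) :=
      e ▸ inferInstance
    exact IsIso.of_isIso_comp_left ((Z.fromSpecStalk z).stalkMap (locB h z (genericPoint P))) _
  haveI : IsDomain (Z.presheaf.stalk z) := inferInstance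
  have hregP : ∀ p : P, IsRegularLocalRing (P.presheaf.stalk p) := fun p => by
    haveI := hstk p
    haveI := hreg (locTo h z p)
    exact IsRegularLocalRing.of_ringEquiv (asIso ((locTo h z).stalkMap p)).commRingCatIsoToRingEquiv
  have hF : FinBir (Z.presheaf.stalk z) := finBir_of_resolution _ (locB h z) hbirP hregP
  let N : Model (Spec (Z.presheaf.stalk z)) :=
    { Z := P, G := locB h z, gen := SurfSeq.map_generic _ hbirP, bir := hbirP }
  haveI : IsProper N.G := inferInstanceAs (IsProper (locB h z))
  have hE := comap_isEffCartier N hd hrat (NormSeq.nice_of_finBir hF hd.le) hns hregP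
  refine MeroX.isEffCartier_of_stalk _ fun x hx U hxU => ?_
  obtain ⟨p, rfl, -⟩ : ∃ p : P, locTo h z p = x ∧ True := by
    obtain ⟨p, h1, -⟩ := Scheme.Pullback.exists_preimage_pullback (f := h) (g := Z.fromSpecStalk z) x
      (closedPoint (Z.presheaf.stalk z)) (((PointBlow.mem_support_exc hz x).1 hx).trans (Scheme.fromSpecStalk_closedPoint).symm)
    exact ⟨p, h1, trivial⟩
  obtain ⟨γ, hγ, hγE⟩ := H23.StalkIdeal.exists_gen hE p
  haveI := hstk p
  let e := (asIso ((locTo h z).stalkMap p)).commRingCatIsoToRingEquiv
  have key : (sI ((pt hz).comap h) (locTo h z p)).map e.toRingHom = Ideal.span {γ} := by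
    rw [← hγE]
    show _ = sI ((BlowUpLib.centre (maximalIdeal (Z.presheaf.stalk z))).comap (locB h z)) p
    rw [← Contraction7.comap_fromSpecStalk hz, ← Scheme.IdealSheafData.comap_comp, ← pullback.condition,
      Scheme.IdealSheafData.comap_comp]
    exact (sI_comap _ _ _).symm
  refine ⟨e.symm γ, mem_nonZeroDivisors_of_ne_zero ((map_ne_zero_iff _ e.symm.injective).2 (nonZeroDivisors.ne_zero hγ)), ?_⟩
  refine (sI_eq _ U hxU).symm.trans ?_
  have h2 := congrArg (Ideal.map e.symm.toRingHom) key
  rw [Ideal.map_map, Ideal.map_span, Set.image_singleton] at h2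
  refine Eq.trans ?_ h2
  rw [show e.symm.toRingHom.comp e.toRingHom = RingHom.id _ from RingHom.ext e.symm_apply_apply, Ideal.map_id]

end Groth.Agent.RegRes
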