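import Mathlib
import Groth.Agent.NormSeq.Step
import Groth.Agent.RegRes.Local
import Groth.Agent.ProjNorm6.Basic
import Groth.Agent.S9690

/-!
# Reaching a regular scheme by normalized blow-ups
-/

set_option autoImplicit false
set_option linter.style.haveILetI false
set_option linter.unusedSectionVars false
set_option backward.isDefEq.respectTransparency false
set_option backward.isDefEq.respectTransparency.types false
set_option maxHeartbeats 800000

universe u

open CategoryTheory CategoryTheory.Limits AlgebraicGeometry TopologicalSpace IsLocalRing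
open Groth.Agent.H23.StalkIdeal
open Groth.Agent.NormSeq (Nice dim_le isEffCartier_comap isIso_of_finite)
open Groth.Agent.PointBlow (pt)

noncomputable section

namespace Groth.Agent.RegRes

/-- The normalized blow-up of a closed surface point. -/
theorem exists_blowUp_lift {Z : Scheme.{u}} (hZ : Nice Z) [IsIntegral Z] {z : Z} (hz : IsClosed ({z} : Set Z))
    (hd : ringKrullDim (Z.presheaf.stalk z) = 2) :
    ∃ (Z₁ : Scheme.{u}) (h : Z₁ ⟶ Z) (_ : IsIntegral Z₁), Nice Z₁ ∧ IsProper h ∧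
      (∀ (X₀ : Scheme.{u}) (r : Z ⟶ X₀), Resolve.IsNormPtBlowupSeq r → Resolve.IsNormPtBlowupSeq (h ≫ r)) ∧
      IsIso (h.stalkMap (genericPoint Z₁)) ∧ BlowUp.IsEffCartierIdeal ((pt hz).comap h) ∧
      (∀ w, h w ≠ z → IsIso (h.stalkMap w)) ∧
      ∀ (W : Scheme.{u}) [IsIntegral W] (g : W ⟶ Z) [LocallyOfFiniteType g], Pi1.IsNormalScheme W →
        IsIso (g.stalkMap (genericPoint W)) → BlowUp.IsEffCartierIdeal ((pt hz).comap g) → ∃ k : W ⟶ Z₁, k ≫ h = g := by
  haveI := hZ.noeth
  obtain ⟨Z', b, hb⟩ := BlowUpLib.exists_blowUp (C := pt hz)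
  haveI := PointBlow.isProper_point hz hb
  have hne : genericPoint Z ≠ z := fun h => by
    have h2 : Order.coheight z = 2 :=
      WithBot.coe_eq_coe.1 (((ringKrullDim_stalk_eq_coheight z).symm.trans hd).trans (by rfl))
    have h0 : Order.coheight z = 0 := Order.coheight_eq_zero.2 fun w _ => show w ≤ z from
      h ▸ genericPoint_specializes w
    exact absurd (h2.symm.trans h0) (by decide)
  obtain ⟨hint, -, hbiso⟩ :
      ∃ _ : IsIntegral Z', b (genericPoint Z') = genericPoint Z ∧ IsIso (b.stalkMap (genericPoint Z')) := by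
    refine (Lib.BlowUpInt.isEmpty_or_birational hb).resolve_left fun hE => ?_
    haveI := PointBlow.isIso_off hz hb
    exact hE.false ((inv (b ∣_ (⟨{z}ᶜ, hz.isOpen_compl⟩ : Z.Opens))) ⟨genericPoint Z, hne⟩).1
  haveI := hint
  haveI : IsLocallyNoetherian Z' := LocallyOfFiniteType.isLocallyNoetherian b
  haveI : IsFinite (Curv2.normalizationι Z') := hZ.fin Z' b hbiso
  have hnorm := NormCurve.isNormalScheme_normalization Z'
  haveI hint₁ : IsIntegral (Curv2.normalization Z') :=
    inferInstanceAs (IsIntegral (Z'.fromSpecStalk (genericPoint Z')).normalization)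
  let ν := Curv2.normalizationι Z'
  obtain ⟨V, hV, hiso⟩ := BMLib.exists_isIso_normalizationι Z'
  haveI := hiso
  haveI : IsOpenImmersion ((ν ⁻¹ᵁ V).ι ≫ ν) := by
    rw [← morphismRestrict_ι]; infer_instance
  have hW : ((ν ⁻¹ᵁ V) : Set ↥(Curv2.normalization Z')).Nonempty := by
    obtain ⟨v, hv⟩ := hV
    exact ⟨(inv (ν ∣_ V) ⟨v, hv⟩).1, (inv (ν ∣_ V) ⟨v, hv⟩).2⟩
  have hν : IsIso (ν.stalkMap (genericPoint (Curv2.normalization Z'))) :=
    PurBir.isIso_stalkMap_of_mem ν (PurBir.genericPoint_mem hW)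
  haveI : IsLocallyNoetherian (Curv2.normalization Z') := LocallyOfFiniteType.isLocallyNoetherian (ν ≫ b)
  haveI : CompactSpace (Curv2.normalization Z') := QuasiCompact.compactSpace_of_compactSpace (ν ≫ b)
  have hgen : IsIso ((ν ≫ b).stalkMap (genericPoint (Curv2.normalization Z'))) := by
    rw [Scheme.Hom.stalkMap_comp]
    haveI := hν
    haveI : IsIso (b.stalkMap (ν (genericPoint (Curv2.normalization Z')))) := by
      rw [SurfSeq.map_generic ν hν]; exact hbiso
    infer_instance
  refine ⟨Curv2.normalization Z', ν ≫ b, hint₁, ⟨hint₁, {}, hnorm, hZ.fin_comp (ν ≫ b) hgen, fun w => ?_⟩, inferInstance, fun X₀ r hr => ?_,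
    hgen, ?_, fun w hw => ?_, fun W _ g _ hWn hg hgc => ?_⟩
  · exact (dim_le (ν ≫ b) hgen w).trans (hZ.dim _)
  · rw [Category.assoc]
    exact Resolve.IsNormPtBlowupSeq.step b r z hz hb hr
  · rw [Scheme.IdealSheafData.comap_comp]
    exact isEffCartier_comap ν hν hb.1
  · haveI hbw := PointBlow.isIso_stalkMap_off hz hb (z := ν w) hw
    have hic : IsIntegrallyClosed (Z'.presheaf.stalk (ν w)) := by
      haveI := (hZ.normal (b (ν w))).2
      exact IsIntegrallyClosed.of_equiv (asIso (b.stalkMap (ν w))).commRingCatIsoToRingEquiv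
    haveI := isIso_of_finite ν hν w hic
    rw [Scheme.Hom.stalkMap_comp]
    infer_instance
  · obtain ⟨g', hg', -⟩ := hb.2 W g hgc
    have hgen' : g' (genericPoint W) = genericPoint Z' := by
      by_contra hne'
      have h1 : b (g' (genericPoint W)) = genericPoint Z := by
        rw [← Scheme.Hom.comp_apply, hg', SurfSeq.map_generic g hg]
      refine hne' (PointBlow.injective_off hz hb (h1 ▸ hne) (h1.trans (SurfSeq.map_generic b hbiso).symm))
    obtain ⟨k, hk, -⟩ := S9690.result Z' g' hWn fun w hw => by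
      obtain rfl : w = genericPoint W := by
        have h := hw.2 (IrreducibleSpace.isIrreducible_univ W) (Set.subset_univ _)
        exact IsGenericPoint.eq (isGenericPoint_def.2 (Set.univ_subset_iff.1 h)) (genericPoint_spec W)
      exact hgen'
    exact ⟨k, by rw [← hg', ← hk, Category.assoc]⟩

/-- The points of height one over surface points. -/
def exc {X' Z : Scheme.{u}} (h : X' ⟶ Z) : Set X' :=
  {ξ | ringKrullDim (X'.presheaf.stalk ξ) = 1 ∧ ringKrullDim (Z.presheaf.stalk (h ξ)) = 2}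

theorem exc_finite {X' Z : Scheme.{u}} [IsIntegral X'] [IsIntegral Z] [IsNoetherian X'] [IsLocallyNoetherian Z]
    (h : X' ⟶ Z) [LocallyOfFiniteType h] (hbir : IsIso (h.stalkMap (genericPoint X'))) : (exc h).Finite := by
  refine (SurfSeq.finite_dim_one h hbir).subset ?_
  rintro ξ ⟨h1, h2⟩
  refine ⟨fun hi => ?_, h1⟩
  have e := ringKrullDim_eq_of_ringEquiv (asIso (h.stalkMap ξ)).commRingCatIsoToRingEquiv
  rw [h1, h2] at e
  exact absurd (WithBot.coe_eq_coe.1 (e : ((2 : ℕ∞) : WithBot ℕ∞) = ((1 : ℕ∞) : WithBot ℕ∞))) (by decide)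

/-- A height-one point on a nonempty effective Cartier divisor. -/
theorem exists_dim_one {Z : Scheme.{u}} [IsIntegral Z] [IsLocallyNoetherian Z] {E : Z.IdealSheafData}
    (hE : BlowUp.IsEffCartierIdeal E) {w : Z} (hw : w ∈ (E.support : Set Z)) :
    ∃ ξ ∈ (E.support : Set Z), ringKrullDim (Z.presheaf.stalk ξ) = 1 := by
  obtain ⟨γ, hγ, hγE⟩ := H23.StalkIdeal.exists_gen hE w
  let A := Z.presheaf.stalk w
  have hne : Ideal.span {γ} ≠ ⊤ := fun h => (PointBlow.mem_support_iff E w).1 hw (hγE.trans h)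
  obtain ⟨P, hP, -⟩ := Ideal.exists_minimalPrimes_le (J := maximalIdeal A) (le_maximalIdeal hne)
  haveI : P.IsPrime := hP.1.1
  have hh : P.height ≤ 1 := Ideal.height_le_one_of_isPrincipal_of_mem_minimalPrimes (Ideal.span {γ}) P hP
  have hP0 : P ≠ ⊥ := fun h => nonZeroDivisors.ne_zero hγ
    (Ideal.mem_bot.1 (h ▸ hP.1.2 (Ideal.mem_span_singleton_self γ)))
  have hh' : P.height = 1 := le_antisymm hh (Order.one_le_iff_ne_zero.2 fun h0 => hP0 (by
    exact Ideal.height_eq_zero_iff_eq_bot.1 h0))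
  let q : Spec A := ⟨P, inferInstance⟩
  refine ⟨Z.fromSpecStalk w q, ?_, ?_⟩
  · have h1 : q ∈ ((E.comap (Z.fromSpecStalk w)).support : Set (Spec A)) := by
      rw [PointBlow.comap_fromSpecStalk_eq, hγE, show ((BlowUpLib.centre (A := A) (Ideal.span {γ})).support :
        Set (Spec A)) = _ from Scheme.IdealSheafData.coe_support_ofIdealTop _, Spec_zeroLocus]
      intro a ha
      obtain ⟨c, hc, hca⟩ := (Ideal.mem_map_iff_of_surjective _
        (ConcreteCategory.bijective_of_isIso (Scheme.ΓSpecIso A).inv).2).1 ha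
      rw [← (ConcreteCategory.bijective_of_isIso (Scheme.ΓSpecIso A).inv).1 hca]
      exact hP.1.2 hc
    rw [Scheme.IdealSheafData.support_comap] at h1
    exact h1
  · haveI : Flat (Z.fromSpecStalk w) := H23.RatExtend.flat_fromSpecStalk Z w
    haveI := H23.FFDescent.isIso_stalkMap_of_flat_of_isPreimmersion (Z.fromSpecStalk w) q
    letI : Algebra A ((Spec A).presheaf.stalk q) := StructureSheaf.stalkAlgebra A q
    haveI : IsLocalization.AtPrime ((Spec A).presheaf.stalk q) q.asIdeal :=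
      StructureSheaf.IsLocalization.to_stalk A q
    rw [ringKrullDim_eq_of_ringEquiv (asIso ((Z.fromSpecStalk w).stalkMap q)).commRingCatIsoToRingEquiv,
      IsLocalization.AtPrime.ringKrullDim_eq_height q.asIdeal]
    show ((P.height : ℕ∞) : WithBot ℕ∞) = 1
    rw [hh']
    rfl

theorem surjective {X' Z : Scheme.{u}} [IsIntegral X'] [IsIntegral Z] (h : X' ⟶ Z) [IsProper h]
    (hbir : IsIso (h.stalkMap (genericPoint X'))) : Function.Surjective h := fun z =>
  h.isClosedMap.isClosed_range.closure_subset_iff.2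
    (Set.singleton_subset_iff.2 ⟨_, SurfSeq.map_generic h hbir⟩) (by rw [(genericPoint_spec Z).def]; trivial)

/-- Normalized blow-ups of singular points end in a regular scheme. -/
theorem exists_regular {X' X : Scheme.{u}} [IsIntegral X'] [IsIntegral X] [IsNoetherian X'] [IsLocallyNoetherian X]
    (hX' : ∀ x : X', IsRegularLocalRing (X'.presheaf.stalk x))
    (hX : ∀ x : X, IsRegularLocalRing (X.presheaf.stalk x))
    (hXd : ∀ x : X, ringKrullDim (X.presheaf.stalk x) ≤ 2) (n : ℕ) :
    ∀ (Z : Scheme.{u}) [IsIntegral Z], Nice Z → ∀ (h : X' ⟶ Z) [IsProper h],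
      IsIso (h.stalkMap (genericPoint X')) → ∀ (t : Z ⟶ X) [LocallyOfFiniteType t],
      IsIso (t.stalkMap (genericPoint Z)) → (exc h).ncard ≤ n →
      ∃ (Zn : Scheme.{u}) (g : Zn ⟶ Z), IsProper g ∧
        (∀ (X₀ : Scheme.{u}) (r : Z ⟶ X₀), Resolve.IsNormPtBlowupSeq r → Resolve.IsNormPtBlowupSeq (g ≫ r)) ∧
        ∀ x : Zn, IsRegularLocalRing (Zn.presheaf.stalk x) := by
  induction n using Nat.strong_induction_on with
  | _ n ih =>
    intro Z _ hZ h _ hbir t _ htbir hn
    by_cases hreg : ∀ z : Z, IsRegularLocalRing (Z.presheaf.stalk z)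
    · exact ⟨Z, 𝟙 Z, inferInstance, fun X₀ r hr => by rwa [Category.id_comp], hreg⟩
    push Not at hreg
    obtain ⟨z, hz⟩ := hreg
    haveI := hZ.noeth
    haveI := (hZ.normal z).1
    haveI := (hZ.normal z).2
    have hd : ringKrullDim (Z.presheaf.stalk z) = 2 := SurfSeq.eq_two (hZ.dim z) fun h1 =>
      hz (ProjNorm6.isRegularLocalRing_of_dim_le_one _ h1)
    have hzc : IsClosed ({z} : Set Z) := SurfSeq.closed_two hZ.dim hd
    have hE := pt_comap_isEffCartier h hbir hX' hzc hd (isRationalSing_stalk t htbir hX hXd z hd) hz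
    obtain ⟨Z₁, h₁, hint, hZ₁, hP, hseq, hbir₁, hcar, -, hlift⟩ := exists_blowUp_lift hZ hzc hd
    haveI := hint
    haveI := hP
    haveI := hZ₁.noeth
    obtain ⟨k, hk⟩ := hlift X' h (FrobTwist.isNormalScheme_of_regular hX') hbir hE
    haveI : IsProper (k ≫ h₁) := hk.symm ▸ ‹IsProper h›
    haveI : IsProper k := IsProper.of_comp k h₁
    have hkbir : IsIso (k.stalkMap (genericPoint X')) := by
      have hg : k (genericPoint X') = genericPoint Z₁ := by
        have h1 : h₁ (k (genericPoint X')) = h₁ (genericPoint Z₁) := by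
          rw [← Scheme.Hom.comp_apply, hk, SurfSeq.map_generic h hbir, SurfSeq.map_generic h₁ hbir₁]
        exact SurfSeq.eq_of_isIso h₁ hbir₁ h1.symm hbir₁
      haveI : IsIso ((k ≫ h₁).stalkMap (genericPoint X')) := by subst hk; exact hbir
      haveI : IsIso (h₁.stalkMap (k (genericPoint X'))) := by rw [hg]; exact hbir₁
      haveI : IsIso (h₁.stalkMap (k (genericPoint X')) ≫ k.stalkMap (genericPoint X')) :=
        Scheme.Hom.stalkMap_comp k h₁ (genericPoint X') ▸ inferInstance
      exact IsIso.of_isIso_comp_left (h₁.stalkMap (k (genericPoint X'))) _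
    have hsub : exc k ⊂ exc h := by
      refine ⟨fun ξ hξ => ⟨hξ.1, le_antisymm (hZ.dim _) ?_⟩, fun hle => ?_⟩
      · rw [← hk, Scheme.Hom.comp_apply, ← hξ.2]
        exact dim_le h₁ hbir₁ _
      obtain ⟨w, hw⟩ := surjective h₁ hbir₁ z
      obtain ⟨ξ₁, hξ₁, hd₁⟩ := exists_dim_one hcar ((PointBlow.mem_support_exc hzc w).2 hw)
      obtain ⟨ξ, rfl⟩ := surjective k hkbir ξ₁
      haveI := RatUp.isIso_of_dim_le_one_normal k hkbir ξ (hZ₁.normal _).2 hd₁.le
      have h1 : ξ ∈ exc h := by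
        refine ⟨(ringKrullDim_eq_of_ringEquiv (asIso (k.stalkMap ξ)).commRingCatIsoToRingEquiv).symm.trans hd₁, ?_⟩
        rw [← hk, Scheme.Hom.comp_apply, (PointBlow.mem_support_exc hzc _).1 hξ₁]
        exact hd
      have h2 := (hle h1).2
      rw [hd₁] at h2
      exact absurd (WithBot.coe_eq_coe.1 (h2 : ((1 : ℕ∞) : WithBot ℕ∞) = ((2 : ℕ∞) : WithBot ℕ∞))) (by decide)
    have hlt := Set.ncard_lt_ncard hsub (exc_finite h hbir)
    haveI : LocallyOfFiniteType (h₁ ≫ t) := inferInstance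
    obtain ⟨Zn, g, hg, hgseq, hgreg⟩ := ih (exc k).ncard (lt_of_lt_of_le hlt hn) Z₁ hZ₁ k hkbir (h₁ ≫ t)
      (NormSeq.isIso_stalkMap_comp h₁ t hbir₁ htbir) le_rfl
    haveI := hg
    exact ⟨Zn, g ≫ h₁, inferInstance, fun X₀ r hr => by
      rw [Category.assoc]; exact hgseq _ _ (hseq _ _ hr), hgreg⟩

end Groth.Agent.RegRes
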