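import Mathlib
import Groth.Agent.RegRes.Seq
import Groth.Agent.NormSeq.Main

/-!
# Resolution by normalized blow-ups
-/

set_option autoImplicit false
set_option linter.style.haveILetI false
set_option linter.unusedSectionVars false
set_option backward.isDefEq.respectTransparency false
set_option backward.isDefEq.respectTransparency.types false
set_option maxHeartbeats 400000

universe u

open CategoryTheory CategoryTheory.Limits AlgebraicGeometry TopologicalSpace IsLocalRing
open Groth.Agent.NormSeq (Model Nice)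

noncomputable section

namespace Groth.Agent.RegRes

theorem isIso_stalkMap_left {W X Z : Scheme.{u}} (t : W ⟶ X) (q : X ⟶ Z) (w : W)
    (h : IsIso ((t ≫ q).stalkMap w)) (hq : IsIso (q.stalkMap (t w))) : IsIso (t.stalkMap w) := by
  haveI := hq
  haveI : IsIso (q.stalkMap (t w) ≫ t.stalkMap w) := Scheme.Hom.stalkMap_comp t q w ▸ h
  exact IsIso.of_isIso_comp_left (q.stalkMap (t w)) _

/-- A resolvable nice surface has a resolution by normalized blow-ups. -/
theorem exists_resolution {Z₀ X : Scheme.{u}} [IsIntegral Z₀] [IsNoetherian Z₀] (hnice : Nice Z₀) (f : X ⟶ Z₀)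
    [IsProper f] [IsIntegral X] (hbir : IsIso (f.stalkMap (genericPoint X)))
    (hreg : ∀ x : X, IsRegularLocalRing (X.presheaf.stalk x)) :
    ∃ (Zn : Scheme.{u}) (g : Zn ⟶ Z₀), Resolve.IsNormPtBlowupSeq g ∧ IsProper g ∧
      ∀ x : Zn, IsRegularLocalRing (Zn.presheaf.stalk x) := by
  haveI : IsLocallyNoetherian X := LocallyOfFiniteType.isLocallyNoetherian f
  haveI : CompactSpace X := QuasiCompact.compactSpace_of_compactSpace f
  haveI : IsNoetherian X := {}
  have hXd : ∀ x : X, ringKrullDim (X.presheaf.stalk x) ≤ 2 := fun x =>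
    (NormSeq.dim_le f hbir x).trans (hnice.dim _)
  let M₀ : Model Z₀ := { Z := X, G := f, gen := SurfSeq.map_generic f hbir, bir := hbir }
  obtain ⟨S, hS⟩ := NormSeq.exists_stage f M₀.genHom M₀.genHom_G hnice
  haveI := S.nice.noeth
  haveI := S.proper
  obtain ⟨t, ht, htg⟩ := S.M.exists_morphism f M₀.genHom hS
  haveI : IsProper (t ≫ f) := ht.symm ▸ S.proper
  haveI : IsProper t := IsProper.of_comp t f
  have hgen : t (genericPoint S.M.Z) = genericPoint X := by
    let p : Spec Z₀.functionField := closedPoint Z₀.functionField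
    rw [← S.M.genHom_apply p, ← Scheme.Hom.comp_apply, htg]
    exact M₀.genHom_apply p
  have htbir : IsIso (t.stalkMap (genericPoint S.M.Z)) := by
    refine isIso_stalkMap_left t f _ ?_ (by rw [hgen]; exact hbir)
    rw [ht]; exact S.M.bir
  have hcl : IsClosed {w : S.M.Z | ¬ IsIso (t.stalkMap w)} := by
    rw [← isOpen_compl_iff, isOpen_iff_forall_mem_open]
    intro w hw
    obtain ⟨W, hwW, hOI⟩ := PurBir.exists_isOpenImmersion_of_isIso_stalkMap t (not_not.1 hw)
    haveI := hOI
    exact ⟨W, fun y hy hn => hn (PurBir.isIso_stalkMap_of_mem t (W := W) hy), W.isOpen, hwW⟩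
  let T : Set X := t '' {w | ¬ IsIso (t.stalkMap w)}
  have hTd : ∀ x ∈ T, ringKrullDim (X.presheaf.stalk x) = 2 := by
    rintro _ ⟨w, hw, rfl⟩
    refine SurfSeq.eq_two (hXd _) fun h1 => hw ?_
    exact SurfSeq.isIso_of_dim_le_one t htbir hreg w h1
  have hTc : IsClosed T := t.isClosedMap _ hcl
  have hTf : T.Finite := PointBlow.finite_of_closed_points hTc fun x hx => SurfSeq.closed_two hXd (hTd x hx)
  have hne : genericPoint X ∈ Tᶜ := by
    rintro ⟨w, hw, hwg⟩
    refine hw ?_
    obtain rfl : w = genericPoint S.M.Z := SurfSeq.eq_of_isIso t htbir (hgen.trans hwg.symm) htbir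
    exact htbir
  have hiso : IsIso (t ∣_ (⟨Tᶜ, hTc.isOpen_compl⟩ : X.Opens)) :=
    Sol.isIso_restrict_of_stalk t htbir _ ⟨_, hne⟩ fun w hw => not_not.1 fun h => hw ⟨w, h, rfl⟩
  obtain ⟨X', g, hg, -, k, hk⟩ := PointDom.exists_domination T hTf hTc
    (fun x hx => ⟨SurfSeq.closed_two hXd (hTd x hx), hreg x, hTd x hx⟩) t hiso
  obtain ⟨hint, hN, hX'reg, hgbir, hgP, -⟩ := Sol.of_seq hg hreg
  haveI := hint
  haveI := hN
  haveI := hgP
  haveI : IsProper (k ≫ t) := hk.symm ▸ hgP
  haveI : IsProper k := IsProper.of_comp k t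
  have hkgen : k (genericPoint X') = genericPoint S.M.Z := by
    refine SurfSeq.eq_of_isIso t htbir ?_ htbir
    rw [hgen, ← Scheme.Hom.comp_apply, hk, SurfSeq.map_generic g hgbir]
  have hkbir : IsIso (k.stalkMap (genericPoint X')) := by
    refine isIso_stalkMap_left k t _ ?_ (by rw [hkgen]; exact htbir)
    rw [hk]; exact hgbir
  obtain ⟨Zn, g', hg', hseq, hreg'⟩ :=
    exists_regular hX'reg hreg hXd _ S.M.Z S.nice k hkbir t htbir le_rfl
  haveI := hg'
  exact ⟨Zn, g' ≫ S.M.G, hseq _ _ S.seq, inferInstance, hreg'⟩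

end Groth.Agent.RegRes
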