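import Mathlib
import Groth.Agent.RegRes.Main
import Groth.Agent.CAlgOdd.NormalLocus
import Groth.Agent.Synt29.Normalization
import Groth.Agent.NormCurve.Delta

/-!
# Finiteness of normalisations of resolvable surfaces
-/

set_option autoImplicit false
set_option linter.style.haveILetI false
set_option linter.unusedSectionVars false
set_option backward.isDefEq.respectTransparency false
set_option backward.isDefEq.respectTransparency.types false
set_option maxHeartbeats 400000

universe u

open CategoryTheory CategoryTheory.Limits AlgebraicGeometry TopologicalSpace IsLocalRing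
open Groth.Agent.NormSeq (Model Nice FinBir)
open Groth.Agent.PointBlow (locTo locB)

noncomputable section

namespace Groth.Agent.RegRes

theorem isN1_of_finBir {R : Type u} [CommRing R] [IsDomain R] [IsNoetherianRing R] (h : FinBir R) : CAlg.IsN1 R := by
  classical
  let K := FractionRing R
  let B := Algebra.adjoin R ((∅ : Finset K) : Set K)
  haveI hfin : Module.Finite B (integralClosure B K) := h K ∅
  haveI : Module.Finite R B := by
    refine Module.Finite.of_surjective (Algebra.linearMap R B) fun b => ?_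
    have hb : (b : K) ∈ (⊥ : Subalgebra R K) := by
      exact (show B ≤ ⊥ by simp [B]) b.2
    obtain ⟨a, ha⟩ := Algebra.mem_bot.1 hb
    exact ⟨a, Subtype.ext ha⟩
  haveI : Module.Finite R (integralClosure B K) := Module.Finite.trans B _
  haveI : IsNoetherian R (integralClosure B K) := by exact isNoetherian_of_isNoetherianRing_of_finite R (integralClosure B K)
  let i : integralClosure R K →ₗ[R] integralClosure B K :=
    { toFun := fun z => ⟨z.1, IsIntegral.tower_top z.2⟩
      map_add' := fun _ _ => rfl
      map_smul' := fun _ _ => rfl }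
  exact Module.Finite.of_injective i fun a b hab =>
    Subtype.ext (congrArg (fun z : integralClosure B K => (z : K)) hab)

theorem isN1_of_ringEquiv {R S : Type u} [CommRing R] [IsDomain R] [IsNoetherianRing R] [CommRing S] [IsDomain S]
    [IsNoetherianRing S] (e : R ≃+* S) (h : FinBir R) : CAlg.IsN1 S := by
  refine isN1_of_finBir (NormSeq.finBir_of_localization h (e : R →+* S) (fun K _ _ _ => ?_) ∅ fun s =>
    ⟨s, 1, Subring.subset_closure (Or.inl ⟨e.symm s, e.apply_symm_apply s⟩), one_mem _, isUnit_one, mul_one s⟩)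
  letI := ((algebraMap S K).comp (e : R →+* S)).toAlgebra
  haveI : FaithfulSMul R K := (faithfulSMul_iff_algebraMap_injective _ _).2
    ((IsFractionRing.injective S K).comp e.injective)
  refine IsFractionRing.of_field _ _ fun z => ?_
  obtain ⟨a, b, -, hab⟩ := IsFractionRing.div_surjective (A := S) z
  exact ⟨e.symm a, e.symm b, hab.symm.trans (by simp [RingHom.algebraMap_toAlgebra])⟩

theorem finBir_stalk_birational {Z' Z : Scheme.{u}} [IsIntegral Z'] [IsIntegral Z] (g : Z' ⟶ Z)
    [LocallyOfFiniteType g] (hbir : IsIso (g.stalkMap (genericPoint Z'))) (w : Z')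
    (h : FinBir (Z.presheaf.stalk (g w))) : FinBir (Z'.presheaf.stalk w) := by
  classical
  let A := Z.presheaf.stalk (g w)
  let B := Z'.presheaf.stalk w
  letI : Algebra A B := (g.stalkMap w).hom.toAlgebra
  haveI : Algebra.EssFiniteType A B := LocallyOfFiniteType.stalkMap g w
  obtain ⟨s, hs⟩ := Algebra.EssFiniteType.cond (R := A) (S := B)
  haveI := hs
  refine NormSeq.finBir_of_localization h (algebraMap A B) (fun K _ _ _ => ?_) s fun b => ?_
  · letI := ((algebraMap B K).comp (algebraMap A B)).toAlgebra
    haveI : FaithfulSMul A K := (faithfulSMul_iff_algebraMap_injective _ _).2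
      ((IsFractionRing.injective B K).comp (SurfSeq.injective_stalk g hbir w))
    refine IsFractionRing.of_field _ _ fun z => ?_
    obtain ⟨p, q, hq, hpq⟩ := IsFractionRing.div_surjective (A := B) z
    obtain ⟨r, t, ht, hp⟩ := SurfSeq.exists_fraction g hbir w p
    obtain ⟨r', t', ht', hq'⟩ := SurfSeq.exists_fraction g hbir w q
    refine ⟨r * t', r' * t, ?_⟩
    have hne : ∀ a : A, a ≠ 0 → algebraMap B K (algebraMap A B a) ≠ 0 := fun a ha h0 =>
      ha (((IsFractionRing.injective B K).comp (SurfSeq.injective_stalk g hbir w))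
        (show algebraMap B K (algebraMap A B a) = algebraMap B K (algebraMap A B 0) by rw [h0, map_zero, map_zero]))
    have hq0 : algebraMap B K q ≠ 0 := (map_ne_zero_iff _ (IsFractionRing.injective B K)).2 (nonZeroDivisors.ne_zero hq)
    change p * algebraMap A B t = algebraMap A B r at hp
    change q * algebraMap A B t' = algebraMap A B r' at hq'
    show z = algebraMap B K (algebraMap A B (r * t')) / algebraMap B K (algebraMap A B (r' * t))
    simp only [map_mul]
    rw [← hp, ← hq', map_mul, map_mul, ← hpq,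
      div_eq_div_iff hq0 (mul_ne_zero (mul_ne_zero hq0 (hne t' ht')) (hne t ht))]
    ring
  · obtain ⟨⟨p, q⟩, hpq⟩ := IsLocalization.surj
      ((IsUnit.submonoid B).comap (algebraMap (Algebra.adjoin A (s : Set B)) B)) b
    refine ⟨p.1, q.1.1, ?_, ?_, q.2, hpq⟩
    · exact Algebra.adjoin_eq_ring_closure (R := A) (s : Set B) ▸ p.2
    · exact Algebra.adjoin_eq_ring_closure (R := A) (s : Set B) ▸ q.1.2

/-- Finite normalisation from local finiteness and a normal open. -/
theorem isFinite_normalizationι_of_local {X : Scheme.{u}} [IsIntegral X] [IsLocallyNoetherian X] (W : X.Opens)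
    (hW : (W : Set X).Nonempty) (hn : ∀ x ∈ W, IsIntegrallyClosed (X.presheaf.stalk x))
    (h : ∀ x : X, CAlg.IsN1 (X.presheaf.stalk x))
    [QuasiCompact (X.fromSpecStalk (genericPoint X))] [QuasiSeparated (X.fromSpecStalk (genericPoint X))] :
    IsFinite (Curv2.normalizationι X) := by
  refine CplNormFinite.isFinite_normalizationι_of_forall fun U _ hU => ?_
  haveI : IsNoetherianRing Γ(X, U) := IsLocallyNoetherian.component_noetherian ⟨U, hU⟩
  haveI : IsDomain Γ(X, U) := IsIntegral.component_integral U
  haveI := functionField_isFractionRing_of_isAffineOpen X U hU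
  refine N12Aux.finite_of_isN1 ?_ X.functionField
  have hgU : genericPoint X ∈ U := by
    obtain ⟨u⟩ := ‹Nonempty U›
    exact (genericPoint_specializes u.1).mem_open U.isOpen u.2
  obtain ⟨f, hf, hgf⟩ := hU.exists_basicOpen_le (V := W) ⟨genericPoint X, PurBir.genericPoint_mem hW⟩ hgU
  have hf0 : f ≠ 0 := by
    rintro rfl
    rw [Scheme.basicOpen_zero] at hgf
    exact hgf.elim
  have hloc : ∀ (y : X) (hy : y ∈ U) (R : Type u) [CommRing R] [Algebra Γ(X, U) R]
      [IsLocalization.AtPrime R (hU.primeIdealOf ⟨y, hy⟩).asIdeal], Nonempty (X.presheaf.stalk y ≃+* R) := by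
    intro y hy R _ _ _
    letI := X.presheaf.algebra_section_stalk (⟨y, hy⟩ : U)
    haveI := hU.isLocalization_stalk ⟨y, hy⟩
    exact ⟨(IsLocalization.algEquiv (hU.primeIdealOf ⟨y, hy⟩).asIdeal.primeCompl (X.presheaf.stalk y) R).toRingEquiv⟩
  refine CAlgOdd.NormalLocus.isN1_of_local hf0 ?_ fun m hm => ?_
  · let D := X.basicOpen f
    have hD : IsAffineOpen D := hU.basicOpen f
    haveI : Nonempty D := ⟨⟨_, hgf⟩⟩
    haveI : IsDomain Γ(X, D) := IsIntegral.component_integral D
    haveI : IsLocalization.Away f Γ(X, X.basicOpen f) := hU.isLocalization_basicOpen f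
    haveI : IsIntegrallyClosed Γ(X, D) := by
      refine IsIntegrallyClosed.of_localization_maximal fun P _ _ => ?_
      let q : PrimeSpectrum Γ(X, D) := ⟨P, inferInstance⟩
      have hqD : hD.fromSpec q ∈ D := by
        rw [← SetLike.mem_coe, ← hD.range_fromSpec]; exact ⟨q, rfl⟩
      letI := X.presheaf.algebra_section_stalk (⟨hD.fromSpec q, hqD⟩ : D)
      haveI : IsLocalization.AtPrime (X.presheaf.stalk (hD.fromSpec q)) q.asIdeal := hD.isLocalization_stalk' q hqD
      haveI : IsIntegrallyClosed (X.presheaf.stalk (hD.fromSpec q)) := by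
        have hqW : hD.fromSpec q ∈ W := hf hqD
        exact hn _ hqW
      exact IsIntegrallyClosed.of_equiv
        (IsLocalization.algEquiv q.asIdeal.primeCompl (X.presheaf.stalk (hD.fromSpec q)) (Localization.AtPrime P)).toRingEquiv
    exact IsIntegrallyClosed.of_equiv
      (IsLocalization.algEquiv (Submonoid.powers f) Γ(X, X.basicOpen f) (Localization.Away f)).toRingEquiv
  · let q : PrimeSpectrum Γ(X, U) := ⟨m, hm.isPrime⟩
    have hqU : hU.fromSpec q ∈ U := by
      rw [← SetLike.mem_coe, ← hU.range_fromSpec]; exact ⟨q, rfl⟩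
    letI := X.presheaf.algebra_section_stalk (⟨hU.fromSpec q, hqU⟩ : U)
    haveI : IsLocalization.AtPrime (X.presheaf.stalk (hU.fromSpec q)) q.asIdeal := hU.isLocalization_stalk' q hqU
    exact CAlgOdd.NagataFT.isN1_of_ringEquiv
      (IsLocalization.algEquiv q.asIdeal.primeCompl (X.presheaf.stalk (hU.fromSpec q)) (Localization.AtPrime m)).toRingEquiv
      (h _)

/-- Birational schemes of finite type over a normal scheme with good local rings have finite normalisation. -/
theorem isFinite_normalizationι_of_birational {Z' Z : Scheme.{u}} [IsIntegral Z'] [IsIntegral Z] (g : Z' ⟶ Z)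
    [LocallyOfFiniteType g] [IsLocallyNoetherian Z] (hbir : IsIso (g.stalkMap (genericPoint Z')))
    (hn : Pi1.IsNormalScheme Z) (h : ∀ z : Z, FinBir (Z.presheaf.stalk z))
    [QuasiCompact (Z'.fromSpecStalk (genericPoint Z'))] [QuasiSeparated (Z'.fromSpecStalk (genericPoint Z'))] :
    IsFinite (Curv2.normalizationι Z') := by
  haveI : IsLocallyNoetherian Z' := LocallyOfFiniteType.isLocallyNoetherian g
  obtain ⟨W, hW, hOI⟩ := PurBir.exists_isOpenImmersion_of_isIso_stalkMap g hbir
  haveI := hOI
  refine isFinite_normalizationι_of_local W ⟨_, hW⟩ (fun w hw => ?_) fun w =>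
    isN1_of_finBir (finBir_stalk_birational g hbir w (h _))
  haveI := PurBir.isIso_stalkMap_of_mem g (W := W) hw
  haveI := (hn (g w)).2
  exact IsIntegrallyClosed.of_equiv (asIso (g.stalkMap w)).commRingCatIsoToRingEquiv

/-- The integral closure of a resolvable local domain is finite. -/
theorem isN1_of_resolution (A : CommRingCat.{u}) [IsDomain A] [IsLocalRing A] [IsNoetherianRing A] {X : Scheme.{u}}
    (f : X ⟶ Spec A) [IsProper f] [IsIntegral X] (hbir : IsIso (f.stalkMap (genericPoint X)))
    (hreg : ∀ x : X, IsRegularLocalRing (X.presheaf.stalk x)) : CAlg.IsN1 A := by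
  haveI : Nonempty (⊤ : X.Opens) := ⟨⟨genericPoint X, trivial⟩⟩
  have hgen : f (genericPoint X) = (⟨⊥, Ideal.isPrime_bot⟩ : PrimeSpectrum A) := by
    rw [SurfSeq.map_generic f hbir]
    exact genericPoint_eq_bot_of_affine A
  have hψ : ∀ a : A, a ≠ 0 → IsUnit (CplNormFinite.Alt.toK (A := A) f a) := by
    intro a ha
    have h1 : genericPoint X ∈ X.basicOpen (CplNormFinite.Alt.toΓ (A := A) f a) := by
      rw [CplNormFinite.Alt.mem_basicOpen_toΓ, hgen]
      exact fun h => ha (Ideal.mem_bot.mp h)
    exact (Scheme.mem_basicOpen (U := ⊤) X _ _ (Opens.mem_top _)).mp h1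
  exact CplNormFinite.Alt.finite_integralClosure (A := A) f hreg
    (IsLocalization.lift (M := nonZeroDivisors A) fun a => hψ a.1 (nonZeroDivisors.ne_zero a.2))
    fun a => IsLocalization.lift_eq _ a

/-- Local rings of resolvable normal schemes. -/
theorem finBir_stalk_of_resolution {Z X' : Scheme.{u}} [IsIntegral Z] [IsLocallyNoetherian Z] [IsIntegral X']
    (h : X' ⟶ Z) [IsProper h] (hbir : IsIso (h.stalkMap (genericPoint X')))
    (hreg : ∀ x : X', IsRegularLocalRing (X'.presheaf.stalk x)) (z : Z) [IsIntegrallyClosed (Z.presheaf.stalk z)] :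
    FinBir (Z.presheaf.stalk z) := by
  obtain ⟨P, G, hP, hint, hbirP, hregP⟩ := exists_local_resolution h hbir hreg z
  exact finBir_of_resolution _ G hbirP hregP

end Groth.Agent.RegRes

namespace Groth.Agent.RegRes

/-- Sequences of normalized blow-ups are birational. -/
theorem seq_birational {Xn Y₀ : Scheme.{u}} {g : Xn ⟶ Y₀} (h : Resolve.IsNormPtBlowupSeq g) :
    ∀ [IsIntegral Y₀], ∃ _ : IsIntegral Xn, g (genericPoint Xn) = genericPoint Y₀ ∧
      IsIso (g.stalkMap (genericPoint Xn)) := by
  induction h with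
  | @iso Y' X' e =>
    intro _
    haveI : Nonempty Y' := ⟨e.inv (genericPoint X')⟩
    haveI : IsIntegral Y' := isIntegral_of_isOpenImmersion e.hom
    exact ⟨inferInstance, genericPoint_eq_of_isOpenImmersion e.hom, inferInstance⟩
  | @step Z' Z X' _ _ _ b r z hz hb hr ih =>
    intro _
    haveI : IsIntegral Z := by
      cases hr with
      | iso e =>
        haveI : Nonempty Z := ⟨b (genericPoint Z')⟩
        exact isIntegral_of_isOpenImmersion e.hom
      | step b' r' z' hz' hb' hr' => exact Synt29.isIntegral_normalization _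
    obtain ⟨_, hrgen, hrbir⟩ := @ih inferInstance
    obtain ⟨_, hbgen, hbbir⟩ := (Lib.BlowUpInt.isEmpty_or_birational hb).resolve_left
      fun h => h.false (genericPoint Z')
    haveI := Synt29.isIntegral_normalization Z'
    obtain ⟨hνgen, hνbir, -⟩ := Synt29.normalization_generic Z'
    refine ⟨inferInstance, by rw [Scheme.Hom.comp_apply, Scheme.Hom.comp_apply, hνgen, hbgen, hrgen], ?_⟩
    rw [Scheme.Hom.stalkMap_comp, Scheme.Hom.stalkMap_comp]
    haveI := hνbir
    haveI : IsIso (b.stalkMap (Curv2.normalizationι Z' (genericPoint (Curv2.normalization Z')))) := by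
      rw [hνgen]; exact hbbir
    haveI : IsIso (r.stalkMap (b (Curv2.normalizationι Z' (genericPoint (Curv2.normalization Z'))))) := by
      rw [hνgen, hbgen]; exact hrbir
    infer_instance

/-- A resolvable surface has a resolution by normalized blow-ups. -/
theorem exists_resolution_global {Y X : Scheme.{u}} [IsIntegral Y] [IsNoetherian Y]
    (hdim : ∀ y : Y, ringKrullDim (Y.presheaf.stalk y) ≤ 2) (g : X ⟶ Y) [IsProper g] [IsIntegral X]
    (V : Y.Opens) (hV : (V : Set Y).Nonempty) [IsIso (g ∣_ V)]
    (hreg : ∀ x : X, IsRegularLocalRing (X.presheaf.stalk x))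
    [QuasiCompact (Y.fromSpecStalk (genericPoint Y))] [QuasiSeparated (Y.fromSpecStalk (genericPoint Y))] :
    ∃ (Xn : Scheme.{u}) (r : Xn ⟶ Curv2.normalization Y), Resolve.IsNormPtBlowupSeq r ∧
      IsProper (r ≫ Curv2.normalizationι Y) ∧ ∀ x : Xn, IsRegularLocalRing (Xn.presheaf.stalk x) := by
  have hbir := isIso_generic_of_restrict g V hV
  haveI : IsFinite (Curv2.normalizationι Y) := by
    refine isFinite_normalizationι_of_local V hV (fun y hy => ?_) fun y => ?_
    · obtain ⟨⟨x, hx⟩, hxy⟩ : ∃ p : (g ⁻¹ᵁ V : X.Opens), (g ∣_ V) p = ⟨y, hy⟩ :=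
        ⟨inv (g ∣_ V) ⟨y, hy⟩, by rw [← Scheme.Hom.comp_apply, IsIso.inv_hom_id]; rfl⟩
      have hgx : g x = y := (morphismRestrict_base_coe g V ⟨x, hx⟩).symm.trans (congrArg Subtype.val hxy)
      subst hgx
      haveI : IsOpenImmersion ((g ⁻¹ᵁ V).ι ≫ g) := by rw [← morphismRestrict_ι]; infer_instance
      haveI := PurBir.isIso_stalkMap_of_mem g (W := g ⁻¹ᵁ V) hx
      haveI := hreg x
      haveI := RegLoc6.isIntegrallyClosed_of_isRegularLocalRing (X.presheaf.stalk x)
      exact IsIntegrallyClosed.of_equiv (asIso (g.stalkMap x)).commRingCatIsoToRingEquiv.symm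
    · obtain ⟨P, G, hP, hint, hbirP, hregP⟩ := exists_local_resolution g hbir hreg y
      exact isN1_of_resolution _ G hbirP hregP
  haveI := Synt29.isIntegral_normalization Y
  obtain ⟨hνgen, hνbir, hνpre⟩ := Synt29.normalization_generic Y
  have hN := NormCurve.isNormalScheme_normalization Y
  haveI : IsLocallyNoetherian (Curv2.normalization Y) :=
    LocallyOfFiniteType.isLocallyNoetherian (Curv2.normalizationι Y)
  haveI : CompactSpace (Curv2.normalization Y) :=
    QuasiCompact.compactSpace_of_compactSpace (Curv2.normalizationι Y)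
  haveI : IsNoetherian (Curv2.normalization Y) := {}
  obtain ⟨k, hk, -⟩ := S9690.result Y g (FrobTwist.isNormalScheme_of_regular hreg) fun x hx => by
    obtain rfl : x = genericPoint X := by
      have h := hx.2 (IrreducibleSpace.isIrreducible_univ X) (Set.subset_univ _)
      exact IsGenericPoint.eq (isGenericPoint_def.2 (Set.univ_subset_iff.1 h)) (genericPoint_spec X)
    exact SurfSeq.map_generic g hbir
  haveI : IsProper (k ≫ Curv2.normalizationι Y) := hk.symm ▸ ‹IsProper g›
  haveI : IsProper k := IsProper.of_comp k (Curv2.normalizationι Y)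
  have hkgen : k (genericPoint X) = genericPoint (Curv2.normalization Y) := by
    have h1 : k (genericPoint X) ∈ (Curv2.normalizationι Y).base ⁻¹' {genericPoint Y} := by
      show Curv2.normalizationι Y (k (genericPoint X)) = _
      rw [← Scheme.Hom.comp_apply, hk, SurfSeq.map_generic g hbir]
    rw [hνpre] at h1
    exact h1
  have hkbir : IsIso (k.stalkMap (genericPoint X)) :=
    isIso_stalkMap_left k (Curv2.normalizationι Y) _ (by rw [hk]; exact hbir) (by rw [hkgen]; exact hνbir)
  have hnice : Nice (Curv2.normalization Y) :=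
    { integral := inferInstance
      noeth := inferInstance
      normal := hN
      fin := fun Z' _ g' _ hg' _ _ => isFinite_normalizationι_of_birational g' hg' hN fun z => by
        haveI := (hN z).2
        exact finBir_stalk_of_resolution k hkbir hreg z
      dim := fun z => (NormSeq.dim_le (Curv2.normalizationι Y) hνbir z).trans (hdim _) }
  obtain ⟨Xn, r, hseq, hr, hreg'⟩ := exists_resolution hnice k hkbir hreg
  haveI := hr
  exact ⟨Xn, r, hseq, inferInstance, hreg'⟩

/-- A resolution by normalized blow-ups is a resolution. -/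
theorem isResolution_of_seq {Y Xn : Scheme.{u}} [IsIntegral Y]
    [QuasiCompact (Y.fromSpecStalk (genericPoint Y))] [QuasiSeparated (Y.fromSpecStalk (genericPoint Y))]
    (g : Xn ⟶ Curv2.normalization Y) (hseq : Resolve.IsNormPtBlowupSeq g)
    (hP : IsProper (g ≫ Curv2.normalizationι Y)) :
    IsIntegral Xn ∧ ∃ V : Y.Opens, (V : Set Y).Nonempty ∧ IsIso ((g ≫ Curv2.normalizationι Y) ∣_ V) := by
  haveI := hP
  haveI := Synt29.isIntegral_normalization Y
  obtain ⟨hνgen, hνbir, -⟩ := Synt29.normalization_generic Y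
  obtain ⟨hint, hggen, hgbir⟩ := seq_birational hseq
  haveI := hint
  let f := g ≫ Curv2.normalizationι Y
  have hfbir : IsIso (f.stalkMap (genericPoint Xn)) := by
    rw [Scheme.Hom.stalkMap_comp]
    haveI := hgbir
    haveI : IsIso ((Curv2.normalizationι Y).stalkMap (g (genericPoint Xn))) := by rw [hggen]; exact hνbir
    infer_instance
  have hcl : IsClosed {w : Xn | ¬ IsIso (f.stalkMap w)} := by
    rw [← isOpen_compl_iff, isOpen_iff_forall_mem_open]
    intro w hw
    obtain ⟨W, hwW, hOI⟩ := PurBir.exists_isOpenImmersion_of_isIso_stalkMap f (not_not.1 hw)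
    haveI := hOI
    exact ⟨W, fun y hy hn => hn (PurBir.isIso_stalkMap_of_mem f (W := W) hy), W.isOpen, hwW⟩
  let U : Y.Opens := ⟨(f '' {w | ¬ IsIso (f.stalkMap w)})ᶜ, (f.isClosedMap _ hcl).isOpen_compl⟩
  have hne : genericPoint Y ∈ U := by
    rintro ⟨w, hw, hwg⟩
    refine hw ?_
    obtain rfl : w = genericPoint Xn :=
      SurfSeq.eq_of_isIso f hfbir ((SurfSeq.map_generic f hfbir).trans hwg.symm) hfbir
    exact hfbir
  exact ⟨hint, U, ⟨_, hne⟩,
    Sol.isIso_restrict_of_stalk f hfbir U ⟨_, hne⟩ fun w hw => not_not.1 fun h => hw ⟨w, h, rfl⟩⟩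

end Groth.Agent.RegRes
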